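/-
Words and certificates for the multiplier of the Held group.
-/
import Cfsg.Agent.SchurCert.Gen

set_option autoImplicit false
set_option maxRecDepth 100000

namespace CfsgLib.HeMult

open CfsgLib.M23Coh (Step)

def p2Words : List (List ℕ) :=
  [[0, 25, 13, 11, 3, 2, 13, 2, 13, 2, 15, 16],
   [41, 11, 15, 0, 2, 13, 2, 9, 2, 13, 15, 16],
   [1, 49, 2, 20, 3, 13, 15, 9, 2, 9, 2, 15],
   [8, 25, 6, 12, 13, 4, 21, 9, 2, 16, 9, 13, 2],
   [40, 51, 0, 2, 9, 2, 9],
   [45, 34, 2, 3, 9, 15, 2, 13, 15, 16],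
   [26, 17, 11, 2, 9, 2, 16, 2, 9],
   [13, 37, 20, 12, 0, 21, 2, 15, 13, 2],
   [37, 15, 20, 3, 7, 16, 2, 15, 2],
   [49, 18, 25, 5, 16, 12, 3, 15, 16, 2, 16, 9, 16],
   [3, 32, 16, 8, 20, 2, 15, 16],
   [51, 3, 25, 5, 15, 4, 12, 2, 13, 2, 9, 13],
   [25, 44, 17, 12, 16, 21, 2, 15, 2, 13, 2, 9, 15],
   [17, 37, 25, 16, 4, 2, 9, 15, 16, 2, 16]]

def p2Wit : List (List ℕ) :=
  [[92, 354, 1998, 1518, 1309, 1360, 884, 1449, 445, 1841, 680, 955, 978, 1764, 2017, 982],
   [72, 441, 471, 848, 1143, 774, 933, 91],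
   [201],
   [1182],
   [243, 940],
   [23, 1638, 212, 1463, 242, 1715, 2012, 180],
   [243],
   [19],
   [52],
   [0]]

def p2Rows : List ℕ :=
  [22548836272570432, 9098046404362880, 5665345873674944, 10289307333034048, 28209123148464384, 19396321757036864, 13678924303172480, 9386155493556864, 27021872642130176, 26974542102528, 31551691182571520, 13838602060693504, 18295873486192640, 18084767253659648, 10456657318641664, 493133112541184, 18155685753651200, 29859437443284992, 27074464686546944, 2911180394635264, 20890722500608, 19928649367552, 6340119366238208, 27601912895578112, 64660963328, 20267342069112832, 11577380984324096, 14155809017823232, 7474783931596800, 32115673790414848, 31833646910406656, 42949672960, 6755442726535168, 19432779783864320, 5664685315588096, 31668169336946688, 5640516192436224, 9237512066073252905, 9233576056680874880, 11560985961306110426, 5478255973681878221, 9259129481095131592, 896156173463246121, 9243562434838034281, 15921753676513460, 11543494031034220928,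 6198123140068848796205, 295177777562043075117, 2361190272138358199296, 8264157540500213088191, 6198135335331836902802, 7318409725886464, 6198126412731896271872, 37778937224367572535936, 340010400873370202677248, 14667536722296832, 906694393424345033932800, 16348672920928256, 116056878698872866738831295, 270799383625870768135471039, 2464557780402176]

def p2Rels_0 : List (List ℕ × List ℕ) :=
  [([0, 0], [3, 6, 7]),
   ([1, 0], [0, 1, 3, 5, 8, 9]),
   ([1, 1], []),
   ([2, 0], [0, 2, 5, 6, 9]),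
   ([2, 1], [1, 2, 3, 7, 8, 9]),
   ([2, 2], [3, 8]),
   ([3, 0], [0, 3, 7, 8]),
   ([3, 1], [1, 3, 9]),
   ([3, 2], [2, 3, 9]),
   ([3, 3], []),
   ([4, 0], [0, 4, 6, 8, 9]),
   ([4, 1], [1, 4, 5, 8]),
   ([4, 2], [2, 4, 5, 6, 7]),
   ([4, 3], [3, 4, 7, 8, 9]),
   ([4, 4], []),
   ([5, 0], [0, 5, 7]),
   ([5, 1], [1, 5]),
   ([5, 2], [2, 5, 7, 9]),
   ([5, 3], [3, 5, 9]),
   ([5, 4], [4, 5]),
   ([5, 5], []),
   ([6, 0], [0, 6, 7, 8, 9]),
   ([6, 1], [1, 6, 8, 9]),
   ([6, 2], [2, 6, 8, 9]),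
   ([6, 3], [3, 6, 9]),
   ([6, 4], [4, 6]),
   ([6, 5], [5, 6]),
   ([6, 6], []),
   ([7, 0], [0, 7, 9]),
   ([7, 1], [1, 7, 9]),
   ([7, 2], [2, 7, 9]),
   ([7, 3], [3, 7]),
   ([7, 4], [4, 7]),
   ([7, 5], [5, 7]),
   ([7, 6], [6, 7]),
   ([7, 7], []),
   ([8, 0], [0, 8]),
   ([8, 1], [1, 8]),
   ([8, 2], [2, 8, 9]),
   ([8, 3], [3, 8]),
   ([8, 4], [4, 8]),
   ([8, 5], [5, 8]),
   ([8, 6], [6, 8]),
   ([8, 7], [7, 8]),
   ([8, 8], []),
   ([9, 0], [0, 9]),
   ([9, 1], [1, 9]),
   ([9, 2], [2, 9]),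
   ([9, 3], [3, 9]),
   ([9, 4], [4, 9]),
   ([9, 5], [5, 9]),
   ([9, 6], [6, 9]),
   ([9, 7], [7, 9]),
   ([9, 8], [8, 9]),
   ([9, 9], []),
   ([10, 0, 2, 4, 6, 7, 9], [3, 5, 8, 10]),
   ([10, 1, 2, 3, 5, 6, 8], [1, 2, 5, 6, 8, 9, 10]),
   ([10, 2, 3, 5, 8], [1, 3, 6, 7, 10]),
   ([10, 3, 5, 7, 9], [0, 2, 3, 4, 6, 7, 9, 10]),
   ([10, 5, 9], [0, 2, 4, 6, 7, 8, 10]),
   ([10, 6, 9], [1, 2, 3, 5, 7, 10]),
   ([10, 7, 9], [7, 9, 10]),
   ([10, 8], [3, 7, 8, 10]),
   ([10, 9], [9, 10]),
   ([11, 0, 2, 5, 6, 8], [1, 5, 6, 7, 9, 11]),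
   ([11, 1, 4, 6], [0, 2, 5, 7, 9, 11]),
   ([11, 3, 4, 8], [0, 1, 2, 4, 8, 11]),
   ([11, 4, 5, 9], [5, 6, 7, 9, 11]),
   ([11, 5, 9], [5, 11]),
   ([11, 6, 9], [4, 5, 8, 11]),
   ([11, 7, 9], [5, 8, 9, 11]),
   ([11, 8, 9], [5, 7, 11]),
   ([11, 9], [9, 11]),
   ([12, 1, 4, 6], [1, 3, 6, 7, 8, 12]),
   ([12, 4, 5, 9], [4, 5, 6, 9, 12]),
   ([12, 5, 9], [8, 12]),
   ([12, 6, 7, 8, 9], [5, 6, 9, 12]),
   ([12, 7, 9], [4, 6, 8, 9, 12]),
   ([12, 8, 9], [5, 7, 9, 12]),
   ([12, 9], [5, 7, 8, 12]),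
   ([13, 0, 1, 2, 4, 9], [3, 4, 7, 9, 13]),
   ([13, 3, 4, 5, 9], [0, 1, 2, 4, 5, 6, 7, 8, 9, 13]),
   ([13, 4, 5, 9], [7, 13]),
   ([13, 5, 6], [5, 7, 13]),
   ([13, 6, 7, 8, 9], [4, 5, 6, 8, 13]),
   ([13, 7, 9], [4, 5, 7, 8, 9, 13]),
   ([13, 8], [4, 5, 13]),
   ([13, 9], [7, 8, 13])]

def p2Rels : List (List ℕ × List ℕ) :=
  p2Rels_0

def p2Eqs_0 : List (List ℕ × List Step × List Step) :=
  [([0, 0, 0], [(0, false, 0), (28, false, 2), (21, false, 1), (6, false, 0), (42, false, 3), (34, false, 2), (43, false, 4), (35, false, 3), (44, false, 3), (52, false, 3), (54, false, 4)], [(0, false, 1)]),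
   ([1, 1, 0], [(2, false, 0)], [(1, false, 1), (1, false, 0), (46, false, 5), (37, false, 4), (16, false, 3), (7, false, 2), (2, false, 1), (50, false, 2), (53, false, 3), (54, false, 4), (39, false, 3), (18, false, 2), (9, false, 1), (53, false, 2), (50, false, 3), (41, false, 2), (20, false, 1), (53, false, 2), (44, false, 1), (54, false, 1)]),
   ([1, 0, 0], [(1, false, 0), (45, false, 5), (36, false, 4), (15, false, 3), (6, false, 2), (1, false, 1), (0, false, 0), (29, false, 2), (22, false, 1), (7, false, 0), (51, false, 2), (53, false, 3), (54, false, 4), (43, false, 3), (48, false, 5), (39, false, 4), (31, false, 3), (24, false, 2), (9, false, 1), (52, false, 2), (53, false, 3), (54, false, 4), (41, false, 3), (33, false, 2), (26, false, 1), (44, false, 4), (48, false, 4), (31, false, 3), (24, false, 2), (18, false, 1), (51, false, 3), (54, false, 4), (52, false, 5), (35, false, 4), (53, false, 4), (50, false, 5), (41, false, 4), (26, false, 3), (20, false, 2), (52,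 false, 4), (43, false, 3), (53, false, 5), (44, false, 4), (54, false, 4)], [(0, false, 1)]),
   ([2, 2, 0], [(5, false, 0), (36, false, 1), (6, false, 0), (44, false, 3)], [(3, false, 1), (3, false, 0), (47, false, 4), (23, false, 3), (17, false, 2), (5, false, 1), (41, false, 2), (43, false, 3), (51, false, 5), (42, false, 4), (34, false, 3), (53, false, 6), (44, false, 5), (54, false, 5), (50, false, 5), (33, false, 4), (26, false, 3), (20, false, 2), (51, false, 4), (34, false, 3), (27, false, 2), (54, false, 3)]),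
   ([2, 0, 0], [(3, false, 0), (45, false, 4), (21, false, 3), (15, false, 2), (3, false, 1), (0, false, 0), (30, false, 2), (23, false, 1), (8, false, 0), (51, false, 2), (53, false, 3), (54, false, 4), (43, false, 3), (50, false, 5), (41, false, 4), (33, false, 3), (26, false, 2), (51, false, 6), (42, false, 5), (34, false, 4), (27, false, 3), (54, false, 5), (41, false, 4), (33, false, 3), (20, false, 2), (43, false, 3), (35, false, 2), (42, false, 2), (43, false, 3), (44, false, 4), (54, false, 4)], [(0, false, 1)]),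
   ([2, 1, 0], [(4, false, 0), (45, false, 5), (36, false, 4), (28, false, 3), (6, false, 2), (3, false, 1), (1, false, 0), (47, false, 5), (38, false, 4), (17, false, 3), (8, false, 2), (50, false, 4), (52, false, 5), (54, false, 6), (54, false, 7), (41, false, 6), (33, false, 5), (20, false, 4), (42, false, 5), (34, false, 4), (48, false, 7), (39, false, 6), (31, false, 5), (24, false, 4), (9, false, 3), (52, false, 4), (53, false, 5), (54, false, 6), (43, false, 5), (35, false, 4), (44, false, 4), (53, false, 5), (54, false, 6)], [(1, false, 1), (3, false, 0), (46, false, 4), (22, false, 3), (16, false, 2), (4, false, 1), (50, false, 6), (41, false, 5), (33, false, 4), (51, false, 7), (42, false, 6), (34, false, 5), (53, false, 8), (44, false, 7), (54, false, 7), (48, false, 7), (31, false, 6), (24, false, 5), (18, false, 4), (9, false, 3), (51, false, 4), (54, false, 5), (50, false, 6), (33, false, 5), (26, false, 4), (20, false, 3), (53, false, 5), (54, false, 6)]),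
   ([2, 2, 1], [(5, false, 0), (37, false, 1), (7, false, 0), (53, false, 2)], [(4, false, 1), (4, false, 0), (47, false, 5), (38, false, 4), (30, false, 3), (8, false, 2), (5, false, 1), (39, false, 2), (9, false, 1), (52, false, 2), (43, false, 1), (54, false, 3), (44, false, 2), (54, false, 2), (31, false, 1), (35, false, 2)]),
   ([2, 1, 1], [(4, false, 0), (46, false, 5), (37, false, 4), (29, false, 3), (7, false, 2), (4, false, 1), (2, false, 0), (48, false, 4), (39, false, 3), (31, false, 2), (9, false, 1), (54, false, 3), (43, false, 2), (35, false, 1), (53, false, 2), (44, false, 1), (54, false, 1)], [(2, false, 1)]),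
   ([2, 2, 2], [(5, false, 0), (38, false, 1), (8, false, 0), (53, false, 2), (54, false, 3)], [(5, false, 1)]),
   ([3, 3, 0], [(9, false, 0)], [(6, false, 1), (6, false, 0), (39, false, 3), (31, false, 2), (9, false, 1), (43, false, 2), (35, false, 1), (44, false, 1)])]

def p2Eqs_1 : List (List ℕ × List Step × List Step) :=
  [([3, 0, 0], [(6, false, 0), (36, false, 3), (28, false, 2), (6, false, 1), (0, false, 0), (31, false, 2), (24, false, 1), (9, false, 0), (52, false, 1), (52, false, 2), (35, false, 1), (53, false, 1), (52, false, 2), (43, false, 1), (54, false, 3), (44, false, 2)], [(0, false, 1), (9, false, 0)]),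
   ([3, 1, 0], [(7, false, 0), (45, false, 2), (6, false, 1), (1, false, 0), (48, false, 5), (39, false, 4), (18, false, 3), (9, false, 2), (53, false, 3), (54, false, 4), (43, false, 3), (44, false, 4)], [(1, false, 1), (6, false, 0), (37, false, 3), (29, false, 2), (7, false, 1), (52, false, 3), (54, false, 4), (39, false, 4), (31, false, 3), (9, false, 2), (41, false, 3), (33, false, 2), (44, false, 4)]),
   ([3, 3, 1], [(9, false, 0)], [(7, false, 1), (7, false, 0), (48, false, 2), (9, false, 1), (54, false, 1)]),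
   ([3, 1, 1], [(7, false, 0), (46, false, 2), (7, false, 1), (2, false, 0), (54, false, 1)], [(2, false, 1)]),
   ([3, 2, 0], [(8, false, 0), (45, false, 2), (6, false, 1), (3, false, 0), (48, false, 4), (24, false, 3), (18, false, 2), (51, false, 4), (54, false, 5), (52, false, 5), (53, false, 6), (54, false, 7)], [(3, false, 1), (6, false, 0), (38, false, 3), (30, false, 2), (8, false, 1), (52, false, 3), (54, false, 4), (50, false, 5), (41, false, 4), (33, false, 3), (51, false, 6), (42, false, 5), (34, false, 4), (54, false, 7)]),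
   ([3, 2, 1], [(8, false, 0), (46, false, 2), (7, false, 1), (4, false, 0), (48, false, 5), (39, false, 4), (31, false, 3), (9, false, 2), (54, false, 4)], [(4, false, 1), (7, false, 0), (47, false, 2), (8, false, 1), (54, false, 3), (9, false, 2)]),
   ([3, 2, 2], [(8, false, 0), (47, false, 2), (8, false, 1), (5, false, 0), (39, false, 1), (9, false, 0), (54, false, 1)], [(5, false, 1), (9, false, 0)]),
   ([4, 4, 0], [(14, false, 0)], [(10, false, 1), (10, false, 0), (49, false, 4), (40, false, 3), (25, false, 2), (14, false, 1), (51, false, 3), (42, false, 2), (27, false, 1), (53, false, 2), (44, false, 1), (54, false, 1)]),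
   ([4, 0, 0], [(10, false, 0), (45, false, 4), (36, false, 3), (21, false, 2), (10, false, 1), (0, false, 0), (32, false, 2), (25, false, 1), (34, false, 3), (27, false, 2), (51, false, 4), (42, false, 3), (34, false, 2), (52, false, 5), (43, false, 4), (35, false, 3), (53, false, 4), (44, false, 3), (54, false, 3)], [(0, false, 1), (13, false, 0), (51, false, 4), (42, false, 3), (34, false, 2), (52, false, 5), (43, false, 4), (35, false, 3)]),
   ([4, 1, 0], [(11, false, 0), (36, false, 3), (15, false, 2), (10, false, 1), (1, false, 0), (49, false, 5), (40, false, 4), (19, false, 3), (51, false, 6), (42, false, 5), (53, false, 7), (44, false, 6), (54, false, 6), (26, false, 5), (20, false, 4)], [(1, false, 1), (10, false, 0), (46, false, 4), (37, false, 3), (22, false, 2), (11, false, 1), (42, false, 4), (44, false, 5), (53, false, 5), (54, false, 6), (39, false, 5), (24, false, 4), (18, false, 3), (13, false, 2), (50, false, 6), (41, false, 5), (33, false, 4), (54, false,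 7), (42, false, 6), (34, false, 5), (53, false, 8), (44, false, 7), (50, false, 7), (33, false, 6), (26, false, 5), (20, false, 4), (53, false, 6), (54, false, 7)])]

def p2Eqs_2 : List (List ℕ × List Step × List Step) :=
  [([4, 4, 1], [(14, false, 0)], [(11, false, 1), (11, false, 0), (40, false, 3), (19, false, 2), (14, false, 1), (41, false, 2), (20, false, 1), (44, false, 1)]),
   ([4, 1, 1], [(11, false, 0), (37, false, 3), (16, false, 2), (11, false, 1), (2, false, 0), (41, false, 2), (20, false, 1), (44, false, 1)], [(2, false, 1)]),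
   ([4, 2, 0], [(12, false, 0), (28, false, 4), (21, false, 3), (15, false, 2), (10, false, 1), (3, false, 0), (49, false, 4), (25, false, 3), (19, false, 2), (51, false, 5), (27, false, 4), (53, false, 4), (54, false, 5), (41, false, 4), (20, false, 3), (43, false, 3), (42, false, 4), (34, false, 3), (43, false, 5), (35, false, 4), (44, false, 4), (52, false, 4), (54, false, 5)], [(3, false, 1), (10, false, 0), (47, false, 4), (38, false, 3), (23, false, 2), (12, false, 1), (34, false, 5), (27, false, 4), (53, false, 6), (44, false, 5), (54, false, 5), (50, false, 5), (33, false, 4), (20, false, 3), (51, false, 4), (34, false, 3), (54, false, 5)]),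
   ([4, 2, 1], [(12, false, 0), (29, false, 4), (22, false, 3), (16, false, 2), (11, false, 1), (4, false, 0), (49, false, 5), (40, false, 4), (32, false, 3), (50, false, 6), (41, false, 5), (33, false, 4), (53, false, 7), (44, false, 6), (50, false, 6), (33, false, 5), (20, false, 4), (51, false, 5), (34, false, 4), (53, false, 6), (54, false, 7), (43, false, 6), (35, false, 5)], [(4, false, 1), (11, false, 0), (38, false, 3), (17, false, 2), (12, false, 1), (33, false, 5), (26, false, 4), (20, false, 3), (35, false, 4), (53, false, 4), (54, false, 5), (39, false, 4), (24, false, 3), (13, false, 2), (51, false, 6), (42, false, 5), (34, false, 4), (54, false, 7), (44, false, 6), (35, false, 5)]),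
   ([4, 4, 2], [(14, false, 0)], [(12, false, 1), (12, false, 0), (32, false, 4), (25, false, 3), (19, false, 2), (14, false, 1), (33, false, 3), (26, false, 2), (20, false, 1), (34, false, 2), (27, false, 1), (35, false, 1)]),
   ([4, 2, 2], [(12, false, 0), (30, false, 4), (23, false, 3), (17, false, 2), (12, false, 1), (5, false, 0), (40, false, 1), (41, false, 2), (42, false, 3), (43, false, 4), (41, false, 5), (33, false, 4), (26, false, 3), (20, false, 2), (43, false, 4), (35, false, 3), (51, false, 4), (42, false, 3), (27, false, 2), (53, false, 3), (44, false, 2), (54, false, 2)], [(5, false, 1), (13, false, 0), (53, false, 4), (44, false, 3)]),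
   ([4, 3, 0], [(13, false, 0), (45, false, 4), (36, false, 3), (28, false, 2), (10, false, 1), (6, false, 0), (40, false, 3), (32, false, 2), (42, false, 4), (34, false, 3), (44, false, 5), (52, false, 5), (35, false, 4), (54, false, 4)], [(6, false, 1), (10, false, 0), (48, false, 4), (39, false, 3), (24, false, 2), (13, false, 1), (51, false, 5), (42, false, 4), (34, false, 3), (54, false, 6), (44, false, 5), (52, false, 5), (35, false, 4), (53, false, 4)]),
   ([4, 3, 1], [(13, false, 0), (46, false, 4), (37, false, 3), (29, false, 2), (11, false, 1), (7, false, 0), (49, false, 2), (50, false, 3), (53, false, 4), (52, false, 5), (43, false, 4), (54, false, 6), (44, false, 5)], [(7, false, 1), (11, false, 0), (39, false, 3), (18, false, 2), (13, false, 1), (50, false, 5), (41, false, 4), (33, false, 3), (54, false, 6), (44, false, 5)]),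
   ([4, 3, 2], [(13, false, 0), (47, false, 4), (38, false, 3), (30, false, 2), (12, false, 1), (8, false, 0), (49, false, 2), (50, false, 3), (51, false, 4), (52, false, 5), (52, false, 6), (35, false, 5), (54, false, 5), (54, false, 6)], [(8, false, 1), (12, false, 0), (31, false, 4), (24, false, 3), (18, false, 2), (13, false, 1), (50, false, 5), (41, false, 4), (33, false, 3), (54, false, 6), (42, false, 5), (34, false, 4), (52, false, 7), (43, false, 6), (35, false, 5), (54, false, 6)]),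
   ([4, 4, 3], [(14, false, 0)], [(13, false, 1), (13, false, 0), (49, false, 4), (40, false, 3), (32, false, 2), (14, false, 1), (52, false, 3), (43, false, 2), (35, false, 1), (53, false, 2), (44, false, 1), (54, false, 1)])]

def p2Eqs_3 : List (List ℕ × List Step × List Step) :=
  [([4, 3, 3], [(13, false, 0), (48, false, 4), (39, false, 3), (31, false, 2), (13, false, 1), (9, false, 0), (52, false, 3), (43, false, 2), (35, false, 1), (53, false, 2), (44, false, 1), (54, false, 1)], [(9, false, 1)]),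
   ([5, 5, 0], [(20, false, 0)], [(15, false, 1), (15, false, 0), (33, false, 2), (20, false, 1), (35, false, 1)]),
   ([5, 0, 0], [(15, false, 0), (28, false, 2), (15, false, 1), (0, false, 0), (33, false, 2), (26, false, 1), (35, false, 3)], [(0, false, 1), (18, false, 0), (51, false, 2), (52, false, 3)]),
   ([5, 1, 0], [(16, false, 0), (15, false, 1), (1, false, 0), (50, false, 5), (41, false, 4), (20, false, 3), (52, false, 4), (43, false, 3)], [(1, false, 1), (15, false, 0), (29, false, 2), (16, false, 1), (48, false, 4), (31, false, 3), (18, false, 2), (52, false, 4), (54, false, 5), (33, false, 4), (20, false, 3)]),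
   ([5, 2, 0], [(17, false, 0), (45, false, 3), (28, false, 2), (15, false, 1), (3, false, 0), (50, false, 4), (26, false, 3), (20, false, 2), (52, false, 3), (52, false, 4), (35, false, 3), (54, false, 3)], [(3, false, 1), (15, false, 0), (30, false, 2), (17, false, 1), (52, false, 4), (35, false, 3), (54, false, 3), (20, false, 2)]),
   ([5, 2, 2], [(17, false, 0), (47, false, 3), (30, false, 2), (17, false, 1), (5, false, 0), (41, false, 1), (43, false, 2), (52, false, 4), (43, false, 3), (35, false, 2), (54, false, 3)], [(5, false, 1), (18, false, 0), (53, false, 2)]),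
   ([5, 4, 0], [(19, false, 0), (15, false, 1), (10, false, 0), (50, false, 4), (41, false, 3), (26, false, 2), (52, false, 5), (43, false, 4)], [(10, false, 1), (15, false, 0), (32, false, 2), (19, false, 1), (34, false, 3)]),
   ([10, 0, 2, 4, 6, 7, 9, 0, 2, 4, 6, 7, 9], [(55, false, 0), (55, false, 3), (39, false, 2), (18, false, 1), (9, false, 0), (53, false, 1), (50, false, 2), (41, false, 1), (20, false, 0), (53, false, 1), (44, false, 0)], [(45, false, 6), (28, false, 5), (21, false, 4), (10, false, 3), (3, false, 2), (0, false, 1), (30, false, 3), (23, false, 2), (8, false, 1), (51, false, 3), (53, false, 4), (54, false, 5), (43, false, 4), (50, false, 6), (41, false, 5), (33, false, 4), (26, false, 3), (51, false, 7), (42, false, 6), (34, false, 5), (27, false, 4), (54, false, 6), (40, false, 5), (32, false, 4), (19, false, 3), (42, false, 6), (34, false, 5), (44, false, 7), (51, false, 7), (34, false, 6), (27, false, 5), (52, false, 6), (35, false, 5), (53, false,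 5), (54, false, 6), (43, false, 5), (54, false, 7), (38, false, 6), (30, false, 5), (17, false, 4), (12, false, 3), (8, false, 2), (5, false, 1), (39, false, 2), (9, false, 1), (49, false, 2), (40, false, 1), (50, false, 3), (41, false, 2), (51, false, 4), (42, false, 3), (52, false, 5), (43, false, 4), (50, false, 6), (41, false, 5), (33, false, 4), (26, false, 3), (20, false, 2), (52, false, 5), (43, false, 4), (35, false, 3), (54, false, 4), (43, false, 3), (53, false, 5), (44, false, 4), (54, false, 4), (32, false, 3), (25, false, 2), (14, false, 1), (34, false, 2), (27, false, 1), (35, false, 1), (63, false, 0)]),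
   ([10, 1, 2, 3, 5, 6, 8, 1, 2, 3, 5, 6, 8], [(56, false, 0), (56, false, 6), (46, false, 5), (37, false, 4), (22, false, 3), (16, false, 2), (4, false, 1), (2, false, 0), (50, false, 4), (41, false, 3), (33, false, 2), (51, false, 5), (42, false, 4), (34, false, 3), (53, false, 6), (44, false, 5), (54, false, 5), (47, false, 6), (38, false, 5), (30, false, 4), (23, false, 3), (17, false, 2), (8, false, 1), (5, false, 0), (39, false, 1), (9, false, 0), (50, false, 1), (41, false, 0), (52, false, 2), (43, false, 1), (54, false, 3), (42, false, 2), (34, false, 1), (44, false, 3), (52, false, 3), (35, false, 2), (54, false, 2), (54, false, 3), (41, false, 2), (26, false, 1), (20, false, 0), (42, false, 1), (27, false, 0), (44, false, 0)], [(37, false, 6), (22, false, 5), (16, false, 4), (7, false, 3), (4, false, 2), (2, false, 1), (48, false, 5), (39, false, 4), (31, false, 3), (9, false, 2), (54, false, 4), (41, false, 3), (33, false, 2), (42, false, 4), (34, false, 3), (44,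 false, 5), (53, false, 5), (47, false, 6), (38, false, 5), (30, false, 4), (23, false, 3), (17, false, 2), (5, false, 1), (41, false, 2), (43, false, 3), (51, false, 5), (42, false, 4), (34, false, 3), (53, false, 6), (44, false, 5), (54, false, 5), (35, false, 4), (53, false, 4), (54, false, 5), (48, false, 5), (39, false, 4), (24, false, 3), (18, false, 2), (9, false, 1), (51, false, 2), (54, false, 3), (50, false, 4), (41, false, 3), (26, false, 2), (20, false, 1), (51, false, 3), (42, false, 2), (27, false, 1), (53, false, 2), (44, false, 1), (63, false, 0)]),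
   ([10, 1, 2, 3, 5, 6, 8, 0, 2, 4, 6, 7, 9], [(56, false, 0), (55, false, 6), (48, false, 5), (39, false, 4), (24, false, 3), (18, false, 2), (51, false, 4), (54, false, 5), (50, false, 6), (41, false, 5), (26, false, 4), (20, false, 3), (53, false, 5), (44, false, 4)], [(36, false, 6), (21, false, 5), (15, false, 4), (6, false, 3), (3, false, 2), (1, false, 1), (47, false, 6), (38, false, 5), (17, false, 4), (8, false, 3), (50, false, 5), (52, false, 6), (54, false, 7), (54, false, 8), (41, false, 7), (33, false, 6), (20, false, 5), (42, false, 6), (34, false, 5), (48, false, 8), (39, false, 7), (31, false, 6), (24, false, 5), (9, false, 4), (52, false, 5), (53, false, 6), (54, false, 7), (43, false, 6), (35, false, 5), (44, false, 5), (26, false, 4), (34, false, 6), (27, false, 5), (35, false, 5), (53, false, 6), (44, false, 5), (47, false, 5), (17, false, 4), (5, false, 3), (41, false, 4), (43, false, 5), (54, false, 7), (40, false, 6), (32, false, 5), (19, false, 4),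 (42, false, 7), (34, false, 6), (43, false, 8), (35, false, 7), (54, true, 8), (35, true, 7), (43, true, 8), (52, true, 9), (53, true, 8), (34, true, 6), (51, true, 7), (33, true, 5), (50, true, 6), (44, true, 6), (53, true, 7), (13, true, 3), (39, true, 4), (54, true, 5), (53, true, 4), (44, true, 4), (27, true, 4), (42, true, 5), (54, true, 6), (35, true, 5), (43, true, 6), (52, true, 7), (20, true, 4), (26, true, 5), (33, true, 6), (41, true, 7), (50, true, 8), (43, true, 6), (52, true, 7), (42, true, 5), (51, true, 6), (41, true, 4), (50, true, 5), (40, true, 3), (49, true, 4), (9, true, 3), (39, true, 4), (5, true, 3), (8, true, 4), (12, true, 5), (17, true, 6), (23, true, 7), (38, true, 8), (54, true, 9), (35, true, 8), (43, true, 9), (54, true, 10), (53, true, 9), (34, true, 7), (51, true, 8), (44, true, 8), (53, true, 9), (33, true, 6), (41, true, 7), (50, true, 8), (32, true, 5), (40, true, 6), (49, true, 7), (4, true, 2), (11, true, 3), (22, true, 4), (29, true,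 5), (46, true, 6), (55, false, 0), (56, false, 3), (61, false, 9), (63, false, 11), (37, false, 2), (16, false, 1), (7, false, 0), (50, false, 2), (53, false, 3), (47, false, 4), (38, false, 3), (17, false, 2), (8, false, 1), (50, false, 3), (52, false, 4), (54, false, 5), (54, false, 6), (41, false, 5), (33, false, 4), (20, false, 3), (42, false, 4), (34, false, 3), (44, false, 5), (52, false, 5), (35, false, 4), (54, false, 4)])]

def p2Eqs_4 : List (List ℕ × List Step × List Step) :=
  [([10, 2, 3, 5, 8, 2, 3, 5, 8], [(57, false, 0), (57, false, 4), (29, false, 3), (22, false, 2), (7, false, 1), (2, false, 0), (51, false, 1), (53, false, 2), (54, false, 3), (43, false, 2), (48, false, 4), (39, false, 3), (31, false, 2), (24, false, 1), (9, false, 0), (52, false, 1), (53, false, 2), (54, false, 3), (42, false, 2), (34, false, 1), (27, false, 0), (43, false, 1), (35, false, 0)], [(38, false, 4), (17, false, 3), (8, false, 2), (5, false, 1), (39, false, 2), (9, false, 1),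 (50, false, 2), (41, false, 1), (52, false, 3), (43, false, 2), (54, false, 4), (44, false, 3), (48, false, 3), (31, false, 2), (18, false, 1), (52, false, 3), (54, false, 4), (33, false, 3), (20, false, 2), (54, true, 3), (20, true, 2), (33, true, 3), (50, true, 4), (58, false, 0), (59, false, 7), (62, false, 13), (45, false, 6), (28, false, 5), (21, false, 4), (10, false, 3), (6, false, 2), (3, false, 1), (0, false, 0), (30, false, 2), (23, false, 1), (8, false, 0), (51, false, 2), (53, false, 3), (54, false, 4), (43, false, 3), (50, false, 5), (41, false, 4), (33, false, 3), (26, false, 2), (51, false, 6), (42, false, 5), (34, false, 4), (27, false, 3), (54, false, 5), (39, false, 4), (31, false, 3), (18, false, 2), (9, false, 1), (52, false, 2), (53, false, 3), (52, false, 4), (43, false, 3), (35, false, 2), (53, false, 3), (44, false, 2), (49, false, 2), (19, false, 1), (51, false, 3), (53, false, 4), (54, false, 5), (42, false, 4), (27, false, 3), (43, false, 3), (44,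 false, 4), (52, false, 4), (35, false, 3), (54, false, 3), (47, false, 3), (17, false, 2), (12, false, 1), (5, false, 0), (40, false, 1), (41, false, 2), (42, false, 3), (43, false, 4), (41, false, 5), (33, false, 4), (26, false, 3), (20, false, 2), (43, false, 4), (35, false, 3), (54, false, 4), (40, false, 3), (25, false, 2), (14, false, 1), (42, false, 2), (27, false, 1), (43, false, 1), (44, false, 2), (31, false, 1), (9, false, 0), (35, false, 0)]),
   ([10, 2, 3, 5, 8, 0, 2, 4, 6, 7, 9], [(57, false, 0), (55, false, 4), (31, false, 3), (24, false, 2), (9, false, 1), (52, false, 2), (50, false, 3), (33, false, 2), (26, false, 1), (53, false, 4)], [(36, false, 4), (15, false, 3), (6, false, 2), (3, false, 1), (48, false, 5), (24, false, 4), (18, false, 3), (51, false, 5), (54, false, 6), (52, false, 6), (53, false, 7), (50, false, 8), (41, false, 7), (33, false, 6), (26, false, 5), (20, false, 4), (52, false, 7), (43, false, 6), (35, false, 5), (53, false, 6), (44, false,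 5), (47, false, 5), (23, false, 4), (8, false, 3), (5, false, 2), (39, false, 3), (9, false, 2), (51, false, 3), (42, false, 2), (53, false, 4), (44, false, 3), (54, false, 3), (49, false, 3), (25, false, 2), (51, false, 4), (27, false, 3), (52, false, 3), (54, false, 4), (54, true, 4), (44, true, 4), (53, true, 5), (20, true, 3), (33, true, 4), (41, true, 5), (50, true, 6), (54, true, 6), (33, true, 3), (41, true, 4), (50, true, 5), (9, true, 2), (13, true, 3), (18, true, 4), (48, true, 5), (54, true, 5), (35, true, 5), (52, true, 6), (44, true, 6), (27, true, 5), (34, true, 6), (42, true, 7), (43, true, 6), (42, true, 5), (41, true, 4), (40, true, 3), (5, true, 2), (12, true, 3), (23, true, 4), (30, true, 5), (47, true, 6), (55, false, 0), (57, false, 3), (63, false, 7), (37, false, 2), (16, false, 1), (7, false, 0), (50, false, 2), (53, false, 3), (48, false, 4), (39, false, 3), (18, false, 2), (9, false, 1), (53, false, 2), (54, false, 3), (42, false, 2), (43, false,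 3)]),
   ([10, 2, 3, 5, 8, 1, 2, 3, 5, 6, 8], [(57, false, 0), (56, false, 4), (29, false, 3), (22, false, 2), (7, false, 1), (2, false, 0), (51, false, 1), (53, false, 2), (54, false, 3), (43, false, 2), (47, false, 4), (38, false, 3), (30, false, 2), (23, false, 1), (8, false, 0), (51, false, 2), (53, false, 3), (54, false, 4), (43, false, 3), (53, false, 5), (44, false, 4), (54, false, 4), (50, false, 4), (33, false, 3), (26, false, 2), (51, false, 5), (34, false, 4), (27, false, 3), (53, false, 4), (54, false, 5)], [(37, false, 4), (16, false, 3), (7, false, 2), (4, false, 1), (48, false, 6), (39, false, 5), (31, false, 4), (9, false, 3), (54, false, 5), (41, false, 4), (33, false, 3), (44, false, 5), (30, false, 4), (17, false, 3), (5, false, 2), (41, false, 3), (43, false, 4), (52, false, 6), (43, false, 5), (35, false, 4), (54, false, 5), (39, false, 4), (18, false, 3), (9, false, 2), (53, false, 3), (50, false, 4), (41, false, 3), (20, false, 2), (51, false, 3),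 (42, false, 2), (53, false, 4), (44, false, 3), (20, true, 2), (26, true, 3), (54, true, 4), (35, true, 4), (52, true, 5), (26, true, 2), (33, true, 3), (50, true, 4), (52, true, 3), (9, true, 2), (24, true, 3), (31, true, 4), (44, true, 5), (20, true, 3), (26, true, 4), (33, true, 5), (41, true, 6), (54, true, 5), (51, true, 4), (18, true, 2), (24, true, 3), (31, true, 4), (39, true, 5), (54, true, 6), (53, true, 5), (44, true, 5), (34, true, 3), (42, true, 4), (54, true, 5), (43, true, 3), (52, true, 4), (41, true, 2), (50, true, 3), (9, true, 2), (39, true, 3), (5, true, 2), (8, true, 3), (17, true, 4), (23, true, 5), (38, true, 6), (56, false, 0), (57, false, 6), (58, false, 10), (59, false, 17), (46, false, 5), (37, false, 4), (22, false, 3), (16, false, 2), (4, false, 1), (2, false, 0), (50, false, 4), (41, false, 3), (33, false, 2), (51, false, 5), (42, false, 4), (34, false, 3), (53, false, 6), (44, false, 5), (54, false, 5), (48, false, 6), (39, false, 5), (31,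 false, 4), (24, false, 3), (18, false, 2), (9, false, 1), (51, false, 2), (54, false, 3), (51, false, 5), (42, false, 4), (34, false, 3), (27, false, 2), (52, false, 4), (43, false, 3), (35, false, 2), (45, false, 3), (36, false, 2), (15, false, 1), (3, false, 0), (50, false, 4), (26, false, 3), (20, false, 2), (52, false, 3), (53, false, 4), (54, false, 5), (38, false, 4), (30, false, 3), (23, false, 2), (5, false, 1), (42, false, 2), (44, false, 3), (52, false, 3), (54, false, 4), (48, false, 5), (39, false, 4), (31, false, 3), (24, false, 2), (9, false, 1), (52, false, 2), (53, false, 3), (54, false, 4), (40, false, 3), (32, false, 2), (25, false, 1), (42, false, 4), (34, false, 3), (27, false, 2), (43, false, 3), (35, false, 2), (45, false, 3), (36, false, 2), (10, false, 1), (0, false, 0), (32, false, 2), (25, false, 1), (34, false, 3), (27, false, 2), (53, false, 4), (44, false, 3), (54, false, 3), (30, false, 2), (12, false, 1), (8, false, 0), (49, false, 2), (50,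 false, 3), (51, false, 4), (52, false, 5), (52, false, 6), (35, false, 5), (54, false, 5), (25, false, 4), (19, false, 3), (14, false, 2), (27, false, 3)]),
   ([10, 3, 5, 7, 9, 3, 5, 7, 9], [(58, false, 0), (58, false, 7), (45, false, 6), (28, false, 5), (21, false, 4), (10, false, 3), (6, false, 2), (3, false, 1), (0, false, 0), (30, false, 2), (23, false, 1), (8, false, 0), (51, false, 2), (53, false, 3), (54, false, 4), (43, false, 3), (50, false, 5), (41, false, 4), (33, false, 3), (26, false, 2), (51, false, 6), (42, false, 5), (34, false, 4), (27, false, 3), (54, false, 5), (39, false, 4), (31, false, 3), (18, false, 2), (9, false, 1), (52, false, 2), (53, false, 3), (52, false, 4), (43, false, 3), (35, false, 2), (53, false, 3), (44, false, 2), (49, false, 2), (19, false, 1), (51, false, 3), (53, false, 4), (54, false, 5), (42, false, 4), (27, false, 3), (43, false, 3), (44, false, 4), (52, false, 4), (35, false, 3), (54, false, 3), (47, false, 3), (17, false, 2),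 (12, false, 1), (5, false, 0), (40, false, 1), (41, false, 2), (42, false, 3), (43, false, 4), (41, false, 5), (33, false, 4), (26, false, 3), (20, false, 2), (43, false, 4), (35, false, 3), (54, false, 4), (39, false, 3), (24, false, 2), (13, false, 1), (9, false, 0), (51, false, 3), (42, false, 2), (34, false, 1), (54, false, 4), (44, false, 3), (32, false, 2), (25, false, 1), (14, false, 0), (34, false, 1), (27, false, 0), (35, false, 0)], [(48, false, 4), (31, false, 3), (18, false, 2), (9, false, 1), (52, false, 2), (54, false, 3), (33, false, 2), (20, false, 1), (35, false, 1), (63, false, 0)]),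
   ([10, 6, 9, 6, 9], [(60, false, 0), (60, false, 5), (29, false, 4), (16, false, 3), (7, false, 2), (4, false, 1), (2, false, 0), (48, false, 4), (39, false, 3), (31, false, 2), (9, false, 1), (54, false, 3), (41, false, 2), (33, false, 1), (43, false, 3), (35, false, 2), (47, false, 3), (38, false, 2), (17, false, 1), (5, false, 0), (41, false, 1), (43, false, 2), (53, false, 4), (44, false, 3), (54, false, 3), (48, false, 3), (31, false, 2), (18, false, 1), (9, false, 0), (52, false, 1), (54, false, 2), (33, false, 1), (20, false, 0), (35, false, 0)], [(51, false, 2), (27, false, 1), (54, false, 1)]),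
   ([10, 6, 9, 0, 2, 4, 6, 7, 9], [(60, false, 0), (55, false, 5), (31, false, 4), (18, false, 3), (9, false, 2), (52, false, 3), (50, false, 4), (33, false, 3), (20, false, 2), (53, false, 3)], [(45, false, 2), (21, false, 1), (54, false, 5), (38, false, 4), (30, false, 3), (23, false, 2), (52, false, 5), (43, false, 4), (54, false, 6), (44, false, 5), (49, false, 5), (32, false, 4), (25, false, 3), (51, false, 6), (34, false, 5), (27, false, 4), (52, false, 5), (35, false, 4), (54, false, 4), (54, true, 4), (35, true, 4), (54, true, 5), (27, true, 4), (34, true, 5), (51, true, 6), (55, false, 0), (60, false, 3), (61, false, 8), (63, false, 10), (37, false, 2), (16, false, 1), (7, false, 0), (50, false, 2), (53, false, 3), (47, false, 4), (38, false, 3), (17, false, 2), (8, false, 1), (50, false, 3), (52, false, 4), (54, false, 5), (54, false, 6), (39, false, 5), (31, false, 4), (18, false, 3), (9, false, 2), (52, false, 3), (53, false, 4), (50, false, 5), (41, false, 4),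 (33, false, 3), (20, false, 2), (52, false, 4), (43, false, 3), (35, false, 2), (52, false, 3), (43, false, 2), (54, false, 4)]),
   ([11, 0, 2, 5, 6, 8, 0, 2, 5, 6, 8], [(64, false, 0), (64, false, 5), (46, false, 4), (29, false, 3), (22, false, 2), (16, false, 1), (2, false, 0), (52, false, 3), (43, false, 2), (54, false, 4), (50, false, 4), (41, false, 3), (33, false, 2), (26, false, 1), (20, false, 0), (51, false, 3), (42, false, 2), (34, false, 1), (27, false, 0), (52, false, 2), (43, false, 1), (35, false, 0), (54, false, 1)], [(36, false, 5), (21, false, 4), (15, false, 3), (3, false, 2), (0, false, 1), (30, false, 3), (23, false, 2), (8, false, 1), (51, false, 3), (53, false, 4), (54, false, 5), (43, false, 4), (50, false, 6), (41, false, 5), (33, false, 4), (26, false, 3), (51, false, 7), (42, false, 6), (34, false, 5), (27, false, 4), (54, false, 6), (41, false, 5), (33, false, 4), (20, false, 3), (43, false, 4), (35, false, 3), (42, false, 3), (43, false, 4),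 (44, false, 5), (53, false, 5), (47, false, 6), (38, false, 5), (30, false, 4), (23, false, 3), (8, false, 2), (5, false, 1), (39, false, 2), (9, false, 1), (51, false, 2), (42, false, 1), (53, false, 3), (44, false, 2), (54, false, 2), (53, false, 3), (54, false, 4), (50, false, 4), (41, false, 3), (33, false, 2), (26, false, 1), (51, false, 5), (42, false, 4), (34, false, 3), (27, false, 2), (53, false, 4), (44, false, 3), (54, true, 3), (52, true, 2), (68, false, 0), (70, false, 1), (72, false, 4), (20, false, 0), (54, false, 1)]),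
   ([11, 1, 4, 6, 1, 4, 6], [(65, false, 0), (65, false, 5), (45, false, 4), (28, false, 3), (15, false, 2), (3, false, 1), (0, false, 0), (30, false, 2), (23, false, 1), (8, false, 0), (51, false, 2), (53, false, 3), (54, false, 4), (43, false, 3), (50, false, 5), (41, false, 4), (33, false, 3), (26, false, 2), (51, false, 6), (42, false, 5), (34, false, 4), (27, false, 3), (54, false, 5), (41, false, 4), (33, false, 3), (20, false, 2), (43, false, 3), (35, false, 2), (43, false, 2), (54, false, 4), (38, false, 3), (30, false, 2), (8, false, 1), (5, false, 0), (39, false, 1), (9, false, 0), (52, false, 1), (43, false, 0), (54, false, 2), (44, false, 1), (50, false, 1), (33, false, 0), (52, false, 2), (35, false, 1), (54, false, 1)], [(22, false, 3), (11, false, 2), (2, false, 1), (42, false, 3), (44, false, 4), (49, false, 4), (25, false, 3), (19, false, 2), (14, false, 1), (51, false, 3), (27, false, 2), (68, false, 0)]),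
   ([11, 1, 4, 6, 0, 2, 5, 6, 8], [(65, false, 0), (64, false, 5), (46, false, 4), (29, false, 3), (16, false, 2), (4, false, 1), (50, false, 6), (41, false, 5), (33, false, 4), (52, false, 7), (43, false, 6), (35, false, 5), (54, false, 6), (50, false, 6), (41, false, 5), (20, false, 4), (51, false, 5), (42, false, 4), (52, false, 6), (43, false, 5), (54, false, 7)], [(21, false, 3), (10, false, 2), (1, false, 1), (49, false, 6), (40, false, 5), (19, false, 4), (51, false, 7), (42, false, 6), (53, false, 8), (44, false, 7), (54, false, 7), (27, false, 6), (47, false, 8), (38, false, 7), (30, false, 6), (17, false, 5), (12, false, 4), (8, false, 3), (49, false, 5), (50, false, 6), (51, false, 7), (52, false, 8), (50, false, 9), (33, false, 8), (26, false, 7), (20, false, 6), (52, false, 8), (35, false, 7), (54, false, 7), (53, false, 8), (54, false, 9), (50, false, 9), (41, false, 8), (33, false, 7), (26, false, 6), (51, false, 10), (42, false, 9), (34, false, 8), (27, false,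 7), (53, false, 9), (44, false, 8), (44, true, 8), (27, true, 7), (34, true, 8), (42, true, 9), (19, true, 5), (25, true, 6), (32, true, 7), (40, true, 8), (54, true, 8), (44, true, 8), (53, true, 9), (34, true, 6), (42, true, 7), (51, true, 8), (33, true, 5), (41, true, 6), (50, true, 7), (4, true, 2), (16, true, 3), (22, true, 4), (37, true, 5), (64, false, 0), (65, false, 5), (71, false, 10), (45, false, 4), (28, false, 3), (21, false, 2), (15, false, 1), (1, false, 0), (50, false, 5), (41, false, 4), (20, false, 3), (52, false, 4), (43, false, 3), (51, false, 5), (42, false, 4), (34, false, 3), (52, false, 6), (43, false, 5), (35, false, 4), (53, false, 5), (44, false, 4), (54, false, 4), (54, false, 5), (30, false, 4), (23, false, 3), (8, false, 2), (51, false, 4), (53, false, 5), (54, false, 6), (43, false, 5), (50, false, 7), (41, false, 6), (33, false, 5), (26, false, 4), (52, false, 8), (43, false, 7), (35, false, 6), (54, false, 7), (41, false, 6), (26, false,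 5), (20, false, 4), (43, false, 5)]),
   ([11, 3, 4, 8, 3, 4, 8], [(66, false, 0), (66, false, 5), (36, false, 4), (10, false, 3), (3, false, 2), (1, false, 1), (0, false, 0), (29, false, 2), (22, false, 1), (7, false, 0), (51, false, 2), (53, false, 3), (54, false, 4), (43, false, 3), (48, false, 5), (39, false, 4), (31, false, 3), (24, false, 2), (9, false, 1), (52, false, 2), (53, false, 3), (54, false, 4), (41, false, 3), (33, false, 2), (26, false, 1), (44, false, 4), (47, false, 4), (30, false, 3), (23, false, 2), (17, false, 1), (51, false, 4), (34, false, 3), (53, false, 5), (54, false, 6), (43, false, 5), (35, false, 4), (54, false, 5), (41, false, 4), (26, false, 3), (20, false, 2), (42, false, 3), (27, false, 2), (49, false, 3), (40, false, 2), (51, false, 4), (42, false, 3), (53, false, 5), (44, false, 4), (54, false, 4), (37, false, 4), (22, false, 3), (11, false, 2), (4, false, 1), (2, false, 0), (49, false, 4), (40, false, 3), (32, false, 2), (50, false, 5),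 (41, false, 4), (33, false, 3), (53, false, 6), (44, false, 5), (51, false, 5), (34, false, 4), (53, false, 6), (54, false, 7), (44, false, 6), (30, false, 5), (23, false, 4), (17, false, 3), (12, false, 2), (8, false, 1), (5, false, 0), (39, false, 1), (9, false, 0), (49, false, 1), (40, false, 0), (50, false, 2), (41, false, 1), (51, false, 3), (42, false, 2), (52, false, 4), (43, false, 3), (50, false, 5), (41, false, 4), (33, false, 3), (26, false, 2), (20, false, 1), (52, false, 4), (43, false, 3), (35, false, 2), (54, false, 3), (42, false, 2), (27, false, 1), (44, false, 1), (52, false, 1), (54, false, 2), (32, false, 1), (14, false, 0)], [(39, false, 3), (13, false, 2), (9, false, 1), (53, false, 4), (44, false, 3), (49, false, 3), (32, false, 2), (14, false, 1), (53, false, 2), (54, true, 3), (53, true, 2), (70, false, 0), (71, false, 3), (72, false, 5), (50, false, 2), (41, false, 1), (20, false, 0), (52, false, 1), (43, false, 0), (54, false, 2)])]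

def p2Eqs_5 : List (List ℕ × List Step × List Step) :=
  [([11, 3, 4, 8, 1, 4, 6], [(66, false, 0), (65, false, 5), (36, false, 4), (10, false, 3), (3, false, 2), (1, false, 1), (0, false, 0), (29, false, 2), (22, false, 1), (7, false, 0), (51, false, 2), (53, false, 3), (54, false, 4), (43, false, 3), (48, false, 5), (39, false, 4), (31, false, 3), (24, false, 2), (9, false, 1), (52, false, 2), (53, false, 3), (54, false, 4), (41, false, 3), (33, false, 2), (26, false, 1), (44, false, 4), (47, false, 4), (30, false, 3), (23, false, 2), (17, false, 1), (51, false, 4), (34, false, 3), (53, false, 5), (54, false, 6), (43, false, 5), (35, false, 4), (54, false, 5), (41, false, 4), (26, false, 3), (20, false, 2), (42, false, 3), (27, false, 2), (49, false, 3), (40, false, 2), (51, false, 4), (42, false, 3), (53, false, 5), (44, false, 4), (54, false, 4), (38, false, 4), (23, false, 3), (12, false, 2), (5, false, 1), (40, false, 2), (41, false, 3), (42, false, 4), (43, false,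 5), (42, false, 6), (34, false, 5), (27, false, 4), (44, false, 5), (53, false, 5), (54, false, 6), (41, false, 5), (33, false, 4), (20, false, 3), (43, false, 4), (35, false, 3)], [(37, false, 3), (11, false, 2), (7, false, 1), (49, false, 3), (50, false, 4), (53, false, 5), (53, false, 6), (44, false, 5), (49, false, 5), (19, false, 4), (14, false, 3), (51, false, 4), (54, true, 5), (35, true, 5), (52, true, 6), (26, true, 3), (33, true, 4), (44, true, 5), (14, true, 3), (25, true, 4), (32, true, 5), (40, true, 6), (54, true, 7), (34, true, 4), (42, true, 5), (51, true, 6), (13, true, 2), (24, true, 3), (65, false, 0), (66, false, 5), (68, false, 10), (70, false, 11), (72, false, 14), (45, false, 4), (28, false, 3), (15, false, 2), (3, false, 1), (0, false, 0), (30, false, 2), (23, false, 1), (8, false, 0), (51, false, 2), (53, false, 3), (54, false, 4), (43, false, 3), (50, false, 5), (41, false, 4), (33, false, 3), (26, false, 2), (51, false, 6), (42, false, 5), (34,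 false, 4), (27, false, 3), (54, false, 5), (41, false, 4), (33, false, 3), (20, false, 2), (43, false, 3), (35, false, 2), (43, false, 2), (54, false, 4), (37, false, 3), (29, false, 2), (7, false, 1), (4, false, 0), (48, false, 5), (39, false, 4), (31, false, 3), (9, false, 2), (54, false, 4), (43, false, 3), (35, false, 2), (53, false, 3), (44, false, 2), (47, false, 2), (5, false, 1), (49, false, 3), (40, false, 2), (53, false, 4), (44, false, 3), (50, false, 3), (50, false, 4), (20, false, 3), (53, false, 3), (54, false, 4)]),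
   ([11, 4, 5, 9, 4, 5, 9], [(67, false, 0), (67, false, 4), (50, false, 3), (33, false, 2), (26, false, 1), (20, false, 0), (51, false, 2), (34, false, 1), (27, false, 0), (52, false, 1), (35, false, 0), (54, false, 0)], [(49, false, 3), (19, false, 2), (14, false, 1), (50, false, 2), (20, false, 1), (54, false, 1)]),
   ([11, 4, 5, 9, 0, 2, 5, 6, 8], [(67, false, 0), (64, false, 4), (46, false, 3), (29, false, 2), (22, false, 1), (16, false, 0), (52, false, 4), (43, false, 3), (54, false, 5), (50, false, 5), (41, false, 4), (33, false, 3), (26, false, 2), (20, false, 1), (51, false, 4), (42, false, 3), (34, false, 2), (27, false, 1), (52, false, 3), (43, false, 2), (35, false, 1), (54, false, 2)], [(45, false, 3), (15, false, 2), (10, false, 1), (50, false, 5), (41, false, 4), (26, false, 3), (52, false, 6), (43, false, 5), (54, false, 7), (38, false, 6), (30, false, 5), (23, false, 4), (17, false, 3), (12, false, 2), (33, false, 6), (26, false, 5), (20, false, 4), (35,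 false, 5), (51, false, 5), (27, false, 4), (53, false, 4), (54, false, 5), (43, false, 4), (53, false, 6), (44, false, 5), (54, false, 5), (33, false, 4), (34, false, 5), (54, true, 8), (43, true, 6), (54, true, 7), (26, true, 4), (41, true, 5), (50, true, 6), (20, true, 4), (26, true, 5), (41, true, 6), (19, true, 3), (25, true, 4), (40, true, 5), (64, false, 0), (67, false, 5), (68, false, 9), (70, false, 10), (72, false, 13), (50, false, 4), (33, false, 3), (26, false, 2), (20, false, 1), (51, false, 3), (34, false, 2), (27, false, 1), (52, false, 2), (35, false, 1), (54, false, 1), (20, false, 1), (54, false, 2)]),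
   ([12, 1, 4, 6, 1, 4, 6], [(73, false, 0), (73, false, 5), (37, false, 4), (29, false, 3), (22, false, 2), (7, false, 1), (2, false, 0), (51, false, 1), (53, false, 2), (54, false, 3), (43, false, 2), (53, false, 4), (44, false, 3), (48, false, 3), (31, false, 2), (24, false, 1), (9, false, 0), (52, false, 1), (54, false, 2), (34, false, 1), (27, false, 0), (35, false, 0)], [(22, false, 3), (11, false, 2), (2, false, 1), (42, false, 3), (44, false, 4), (49, false, 4), (25, false, 3), (19, false, 2), (14, false, 1), (51, false, 3), (27, false, 2), (75, false, 0)]),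
   ([12, 4, 5, 9, 1, 4, 6], [(74, false, 0), (73, false, 4), (46, false, 3), (22, false, 2), (16, false, 1), (11, false, 0), (41, false, 3), (20, false, 2), (42, false, 2), (44, false, 3), (54, false, 3), (24, false, 2), (13, false, 1), (51, false, 5), (42, false, 4), (34, false, 3), (54, false, 6), (42, false, 5), (34, false, 4), (27, false, 3), (43, false, 4), (35, false, 3), (44, false, 3)], [(46, false, 3), (16, false, 2), (11, false, 1), (41, false, 4), (20, false, 3), (49, false, 4), (40, false, 3), (14, false, 2), (51, false, 3), (42, false, 2), (54, true, 3), (20, true, 2), (26, true, 3), (50, true, 4), (26, true, 2), (14, true, 2), (25, true, 3), (73, false, 0), (74, false, 5), (75, false, 9), (78, false, 10), (40, false, 4), (32, false, 3), (25, false, 2), (41, false, 5), (33, false, 4), (26, false, 3), (42, false, 6), (34, false, 5), (27, false, 4), (53, false, 6), (44, false, 5), (50, false, 5), (33, false, 4), (20, false, 3), (52, false, 4), (35, false, 3),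 (54, false, 3)]),
   ([12, 6, 7, 8, 9, 6, 7, 8, 9], [(76, false, 0), (76, false, 3), (50, false, 2), (26, false, 1), (20, false, 0), (51, false, 1), (27, false, 0), (54, false, 0)], [(51, false, 4), (42, false, 3), (34, false, 2), (27, false, 1), (52, false, 3), (43, false, 2), (35, false, 1), (53, false, 2), (44, false, 1), (54, false, 1)]),
   ([12, 6, 7, 8, 9, 1, 4, 6], [(76, false, 0), (73, false, 3), (46, false, 2), (22, false, 1), (16, false, 0), (54, false, 4), (39, false, 3), (24, false, 2), (18, false, 1), (51, false, 3), (54, false, 4), (42, false, 4), (27, false, 3), (43, false, 3), (44, false, 4)], [(46, false, 4), (37, false, 3), (29, false, 2), (22, false, 1), (52, false, 4), (43, false, 3), (54, false, 5), (44, false, 4), (49, false, 4), (32, false, 3), (25, false, 2), (51, false, 5), (34, false, 4), (27, false, 3), (54, true, 4), (44, true, 4), (53, true, 5), (27, true, 3), (73, false, 0), (76, false, 5), (78, false, 8), (79, false, 11), (41, false, 4), (33,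 false, 3), (26, false, 2), (42, false, 5), (34, false, 4), (27, false, 3), (50, false, 5), (41, false, 4), (33, false, 3), (20, false, 2), (52, false, 4), (43, false, 3), (35, false, 2), (54, false, 3), (41, false, 2), (43, false, 3), (44, false, 4)]),
   ([12, 7, 9, 7, 9], [(77, false, 0), (77, false, 4), (49, false, 3), (40, false, 2), (25, false, 1), (14, false, 0), (51, false, 2), (42, false, 1), (27, false, 0), (53, false, 1), (44, false, 0), (54, false, 0)], [(52, false, 2), (35, false, 1), (54, false, 1)]),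
   ([13, 0, 1, 2, 4, 9, 0, 1, 2, 4, 9], [(80, false, 0), (80, false, 4), (48, false, 3), (31, false, 2), (13, false, 1), (9, false, 0), (52, false, 3), (43, false, 2), (35, false, 1), (54, false, 2), (40, false, 1), (14, false, 0), (43, false, 0)], [(45, false, 5), (10, false, 4), (3, false, 3), (1, false, 2), (0, false, 1), (29, false, 3), (22, false, 2), (7, false, 1), (51, false, 3), (53, false, 4), (54, false, 5), (43, false, 4), (48, false, 6), (39, false, 5), (31, false, 4), (24, false, 3), (9, false, 2), (52, false, 3), (53, false, 4), (54, false, 5), (41, false, 4), (33, false, 3), (26, false, 2), (44, false, 5), (47, false, 5), (30, false, 4), (23, false, 3), (17, false, 2), (51, false, 5), (34, false, 4), (53, false, 6), (54, false, 7), (43, false, 6), (35, false, 5), (54, false, 6), (41, false, 5), (26, false, 4), (20, false, 3), (42, false, 4), (27, false, 3), (49, false, 4), (40, false, 3), (51, false, 5), (42, false, 4), (53, false, 6), (44, false, 5), (54,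 false, 5), (46, false, 5), (22, false, 4), (11, false, 3), (4, false, 2), (2, false, 1), (49, false, 5), (40, false, 4), (32, false, 3), (50, false, 6), (41, false, 5), (33, false, 4), (53, false, 7), (44, false, 6), (51, false, 6), (34, false, 5), (53, false, 7), (54, false, 8), (47, false, 8), (38, false, 7), (30, false, 6), (23, false, 5), (17, false, 4), (12, false, 3), (8, false, 2), (5, false, 1), (39, false, 2), (9, false, 1), (49, false, 2), (40, false, 1), (50, false, 3), (41, false, 2), (51, false, 4), (42, false, 3), (52, false, 5), (43, false, 4), (50, false, 6), (41, false, 5), (33, false, 4), (26, false, 3), (20, false, 2), (52, false, 5), (43, false, 4), (35, false, 3), (54, false, 4), (42, false, 3), (27, false, 2), (44, false, 2), (52, false, 2), (54, false, 3), (54, false, 4), (40, false, 3), (32, false, 2), (14, false, 1), (53, true, 2), (85, false, 0), (86, false, 5), (49, false, 4), (40, false, 3), (32, false, 2), (19, false, 1), (14, false, 0), (50,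 false, 3), (41, false, 2), (33, false, 1), (20, false, 0)]),
   ([13, 3, 4, 5, 9, 3, 4, 5, 9], [(81, false, 0), (81, false, 9), (45, false, 8), (36, false, 7), (28, false, 6), (21, false, 5), (15, false, 4), (10, false, 3), (3, false, 2), (1, false, 1), (0, false, 0), (29, false, 2), (22, false, 1), (7, false, 0), (51, false, 2), (53, false, 3), (54, false, 4), (43, false, 3), (48, false, 5), (39, false, 4), (31, false, 3), (24, false, 2), (9, false, 1), (52, false, 2), (53, false, 3), (54, false, 4), (41, false, 3), (33, false, 2), (26, false, 1), (44, false, 4), (47, false, 4), (30, false, 3), (23, false, 2), (17, false, 1), (51, false, 4), (34, false, 3), (53, false, 5), (54, false, 6), (43, false, 5), (35, false, 4), (54, false, 5), (41, false, 4), (26, false, 3), (20, false, 2), (42, false, 3), (27, false, 2), (49, false, 3), (40, false, 2), (51, false, 4), (42, false, 3), (53, false, 5), (44, false, 4), (54, false, 4), (26, false, 3), (34, false, 5), (27, false, 4),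 (35, false, 4), (52, false, 5), (43, false, 4), (54, false, 6), (44, false, 5), (46, false, 5), (29, false, 4), (16, false, 3), (11, false, 2), (4, false, 1), (2, false, 0), (49, false, 4), (40, false, 3), (32, false, 2), (50, false, 5), (41, false, 4), (33, false, 3), (53, false, 6), (44, false, 5), (50, false, 5), (33, false, 4), (20, false, 3), (52, false, 4), (35, false, 3), (54, false, 3), (47, false, 3), (12, false, 2), (8, false, 1), (5, false, 0), (39, false, 1), (9, false, 0), (49, false, 1), (40, false, 0), (50, false, 2), (41, false, 1), (51, false, 3), (42, false, 2), (52, false, 4), (43, false, 3), (54, false, 5), (40, false, 4), (32, false, 3), (25, false, 2), (19, false, 1), (14, false, 0), (41, false, 3), (33, false, 2), (26, false, 1), (20, false, 0), (42, false, 2), (34, false, 1), (27, false, 0), (43, false, 1), (35, false, 0), (44, false, 0)], [(48, false, 4), (18, false, 3), (13, false, 2), (9, false, 1), (50, false, 4), (41, false, 3), (33, false, 2),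 (54, false, 5), (49, false, 5), (40, false, 4), (32, false, 3), (19, false, 2), (14, false, 1), (50, false, 4), (41, false, 3), (33, false, 2), (20, false, 1), (54, false, 3), (54, true, 3), (53, true, 2), (85, false, 0), (86, false, 5), (87, false, 7), (49, false, 4), (40, false, 3), (32, false, 2), (19, false, 1), (14, false, 0), (50, false, 3), (41, false, 2), (33, false, 1), (20, false, 0), (52, false, 2), (43, false, 1), (35, false, 0), (53, false, 1), (44, false, 0)])]

def p2Eqs_6 : List (List ℕ × List Step × List Step) :=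
  [([13, 3, 4, 5, 9, 0, 1, 2, 4, 9], [(81, false, 0), (80, false, 9), (48, false, 8), (39, false, 7), (31, false, 6), (24, false, 5), (18, false, 4), (13, false, 3), (50, false, 7), (41, false, 6), (33, false, 5), (54, false, 8), (42, false, 7), (34, false, 6), (52, false, 9), (43, false, 8), (35, false, 7), (53, false, 8), (44, false, 7), (54, false, 7), (25, false, 6), (19, false, 5), (14, false, 4)], [(45, false, 4), (15, false, 3), (10, false, 2), (6, false, 1), (40, false, 4), (32, false, 3), (42, false, 5), (34, false, 4), (44, false, 6), (50, false, 6), (33, false, 5), (26, false, 4), (52, false, 7), (35, false, 6), (54, false, 6), (22, false, 5), (16, false, 4), (11, false, 3), (7, false, 2), (49, false, 4), (50, false, 5), (53, false, 6), (50, false, 7), (41, false, 6), (20, false, 5), (51, false, 6), (42, false, 5), (53, false, 7), (44, false, 6), (54, false, 6), (23, false, 5), (12, false, 4), (8, false, 3), (49, false, 5), (50, false, 6), (51, false, 7), (52,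 false, 8), (51, false, 9), (34, false, 8), (27, false, 7), (53, false, 8), (54, false, 9), (40, false, 8), (32, false, 7), (19, false, 6), (14, false, 5), (33, true, 5), (41, true, 6), (14, true, 5), (32, true, 6), (40, true, 7), (54, true, 8), (13, true, 4), (48, true, 5), (80, false, 0), (81, false, 4), (45, false, 3), (28, false, 2), (10, false, 1), (6, false, 0), (40, false, 3), (32, false, 2), (42, false, 4), (34, false, 3), (44, false, 5), (52, false, 5), (35, false, 4), (54, false, 4), (46, false, 4), (22, false, 3), (11, false, 2), (7, false, 1), (49, false, 3), (50, false, 4), (53, false, 5), (51, false, 6), (42, false, 5), (53, false, 7), (44, false, 6), (54, false, 6), (47, false, 6), (23, false, 5), (17, false, 4), (12, false, 3), (8, false, 2), (49, false, 4), (50, false, 5), (51, false, 6), (52, false, 7), (50, false, 8), (33, false, 7), (26, false, 6), (20, false, 5), (52, false, 7), (35, false, 6), (54, false, 6), (27, false, 5), (54, false, 6), (40, false,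 5), (14, false, 4), (41, false, 4), (42, false, 5), (43, false, 6), (44, false, 7)])]

def p2Eqs : List (List ℕ × List Step × List Step) :=
  p2Eqs_0 ++ p2Eqs_1 ++ p2Eqs_2 ++ p2Eqs_3 ++ p2Eqs_4 ++ p2Eqs_5 ++ p2Eqs_6

def p2D_0 : List (List ℕ) :=
  [[0, 0, 0, 0, 0, 0, 0, 0, 0, 0, 0, 0, 0, 0, 0, 0, 0, 0, 0, 0, 0, 0, 0, 0, 0, 0, 0, 0, 0, 0, 0, 0, 0, 0, 0, 0, 0, 0, 0, 0, 0, 0, 0, 0, 0, 0, 0, 0, 0, 0, 0, 0, 0, 0, 0, 0, 0, 0, 0, 0, 0, 0, 0, 0, 0, 0, 0, 0, 0, 0, 0, 0, 0, 0, 0, 0, 0, 0, 0, 0, 0, 0, 0, 0, 0, 0, 0, 0],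
   [0, 0, 0, 0, 0, 0, 0, 0, 0, 0, 0, 0, 0, 0, 0, 0, 0, 0, 0, 0, 0, 0, 0, 0, 0, 0, 0, 0, 0, 0, 0, 0, 0, 0, 0, 0, 0, 0, 0, 0, 0, 0, 0, 0, 0, 0, 0, 0, 0, 0, 0, 0, 0, 0, 0, 0, 0, 0, 0, 0, 0, 0, 0, 0, 0, 0, 0, 0, 0, 0, 0, 0, 0, 0, 0, 0, 0, 0, 0, 0, 0, 0, 0, 0, 0, 0, 0, 0],
   [0, 0, 0, 0, 0, 0, 0, 0, 0, 0, 0, 0, 0, 0, 0, 0, 0, 0, 0, 0, 0, 0, 0, 0, 0, 0, 0, 0, 0, 0, 0, 0, 0, 0, 0, 0, 0, 0, 0, 0, 0, 0, 0, 0, 0, 0, 0, 0, 0, 0, 0, 0, 0, 0, 0, 0, 0, 0, 0, 0, 0, 0, 0, 0, 0, 0, 0, 0, 0, 0, 0, 0, 0, 0, 0, 0, 0, 0, 0, 0, 0, 0, 0, 0, 0, 0, 0, 0],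
   [0, 0, 0, 0, 0, 0, 0, 0, 0, 0, 0, 0, 0, 0, 0, 0, 0, 0, 0, 0, 0, 0, 0, 0, 0, 0, 0, 0, 0, 0, 0, 0, 0, 0, 0, 0, 0, 0, 0, 0, 0, 0, 0, 0, 0, 0, 0, 0, 0, 0, 0, 0, 0, 0, 0, 0, 0, 0, 0, 0, 0, 0, 1, 0, 0, 0, 0, 0, 0, 0, 0, 0, 0, 0, 0, 1, 0, 0, 0, 1, 0, 0, 0, 0, 0, 0, 0, 0],
   [0, 0, 0, 0, 0, 0, 0, 0, 0, 0, 0, 0, 0, 0, 0, 0, 0, 0, 0, 0, 0, 0, 0, 0, 0, 0, 0, 0, 0, 0, 0, 0, 0, 0, 0, 0, 0, 0, 0, 0, 0, 0, 0, 0, 0, 0, 0, 0, 0, 0, 0, 0, 0, 0, 0, 0, 0, 0, 0, 0, 0, 0, 0, 0, 0, 0, 0, 0, 0, 0, 0, 0, 0, 0, 0, 0, 0, 0, 0, 0, 0, 0, 0, 0, 0, 0, 0, 0]]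

def p2D_1 : List (List ℕ) :=
  [[0, 0, 0, 0, 0, 0, 0, 0, 0, 0, 0, 0, 0, 0, 0, 0, 0, 0, 0, 0, 0, 0, 0, 0, 0, 0, 0, 0, 0, 0, 0, 0, 0, 0, 0, 0, 0, 0, 0, 0, 0, 0, 0, 0, 0, 0, 0, 0, 0, 0, 0, 0, 0, 0, 0, 0, 0, 0, 0, 0, 0, 0, 0, 0, 0, 0, 0, 0, 0, 0, 0, 0, 0, 0, 0, 0, 0, 0, 0, 1, 0, 0, 0, 0, 0, 0, 0, 1],
   [0, 0, 0, 0, 0, 0, 0, 0, 0, 0, 0, 0, 1, 0, 0, 0, 0, 0, 0, 0, 0, 0, 0, 0, 0, 0, 0, 0, 0, 0, 0, 0, 0, 0, 0, 0, 0, 0, 0, 0, 0, 0, 0, 0, 0, 0, 0, 0, 0, 0, 0, 0, 0, 0, 0, 0, 0, 0, 0, 0, 0, 0, 0, 0, 0, 0, 0, 0, 0, 0, 0, 0, 0, 0, 0, 1, 0, 0, 0, 0, 0, 0, 0, 0, 0, 0, 0, 1],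
   [0, 0, 0, 0, 0, 0, 0, 0, 0, 0, 0, 0, 0, 0, 0, 0, 0, 0, 0, 0, 0, 0, 0, 0, 0, 0, 0, 0, 0, 0, 0, 0, 0, 0, 0, 0, 0, 0, 0, 0, 0, 0, 0, 0, 0, 0, 0, 0, 0, 0, 0, 0, 0, 0, 0, 0, 0, 0, 0, 0, 0, 0, 0, 0, 0, 0, 0, 0, 0, 0, 0, 0, 0, 0, 0, 1, 0, 0, 0, 1, 0, 0, 0, 0, 0, 0, 0, 0],
   [0, 0, 0, 0, 0, 0, 0, 0, 0, 0, 0, 0, 0, 0, 0, 0, 0, 0, 0, 0, 0, 0, 0, 0, 0, 0, 0, 0, 0, 0, 0, 0, 0, 0, 0, 0, 0, 0, 0, 0, 0, 0, 0, 0, 0, 0, 0, 0, 0, 0, 0, 0, 0, 0, 0, 0, 0, 0, 0, 0, 0, 0, 0, 0, 0, 0, 0, 0, 0, 0, 0, 0, 0, 0, 0, 1, 0, 0, 1, 0, 0, 0, 0, 0, 0, 0, 0, 1],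
   [0, 0, 0, 0, 0, 0, 0, 0, 0, 0, 0, 0, 0, 0, 0, 0, 0, 0, 0, 0, 0, 0, 0, 0, 0, 0, 0, 0, 0, 0, 0, 0, 0, 0, 0, 0, 0, 0, 0, 0, 0, 0, 0, 0, 0, 0, 0, 0, 0, 0, 0, 0, 0, 0, 0, 0, 0, 0, 0, 0, 0, 0, 0, 0, 0, 0, 0, 0, 0, 0, 0, 0, 0, 0, 0, 0, 0, 0, 1, 1, 0, 0, 0, 0, 0, 0, 0, 0]]

def p2D : List (List ℕ) :=
  p2D_0 ++ p2D_1

def p2Sol_0 : List (ℕ × List (ℕ × ℕ)) :=
  [(0, [(2, 1), (6, 1), (8, 1), (12, 1), (13, 1), (14, 1), (15, 1), (18, 1), (20, 1), (21, 1), (25, 1), (26, 1), (33, 1), (34, 1), (35, 1), (36, 1), (37, 1), (38, 1), (40, 1), (41, 1), (42, 1), (43, 1), (46, 1), (47, 1), (48, 1), (49, 1), (50, 1), (51, 1), (52, 1), (53, 1), (55, 1), (57, 1), (58, 1), (59, 1), (60, 1)]),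
   (0, [(2, 1), (5, 1), (8, 1), (10, 1), (11, 1), (14, 1), (17, 1), (19, 1), (20, 1), (22, 1), (24, 1), (25, 1), (27, 1), (28, 1), (29, 1), (30, 1), (31, 1), (33, 1), (35, 1), (37, 1), (38, 1), (39, 1), (40, 1), (41, 1), (42, 1), (43, 1), (44, 1), (45, 1), (53, 1), (54, 1), (55, 1), (56, 1), (57, 1)]),
   (0, [(2, 1), (3, 1), (4, 1), (5, 1), (7, 1), (8, 1), (11, 1), (16, 1), (17, 1), (19, 1), (21, 1), (22, 1), (25, 1), (27, 1), (32, 1), (34, 1), (36, 1), (39, 1), (41, 1), (43, 1), (45, 1), (46, 1), (50, 1), (51, 1)]),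
   (0, [(1, 1), (2, 1), (3, 1), (4, 1), (6, 1), (11, 1), (13, 1), (14, 1), (15, 1), (18, 1), (19, 1), (24, 1), (29, 1), (32, 1), (36, 1), (37, 1), (39, 1), (43, 1), (45, 1), (50, 1), (51, 1), (52, 1), (54, 1), (57, 1)]),
   (0, [(3, 1), (6, 1), (7, 1), (9, 1), (10, 1), (12, 1), (15, 1), (16, 1), (23, 1), (26, 1), (27, 1), (29, 1), (30, 1), (31, 1), (35, 1), (40, 1), (42, 1), (44, 1), (54, 1), (56, 1), (58, 1), (59, 1)]),
   (0, [(3, 1), (6, 1), (7, 1), (8, 1), (9, 1), (11, 1), (12, 1), (15, 1), (16, 1), (17, 1), (26, 1), (29, 1), (31, 1), (32, 1), (34, 1), (35, 1), (37, 1), (38, 1), (40, 1), (42, 1), (46, 1), (52, 1), (55, 1), (56, 1), (57, 1), (58, 1), (59, 1)]),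
   (0, [(0, 1), (9, 1), (13, 1), (14, 1), (16, 1), (17, 1), (18, 1), (19, 1), (21, 1), (22, 1), (24, 1), (26, 1), (27, 1), (28, 1), (29, 1), (30, 1), (33, 1), (34, 1), (51, 1), (55, 1), (56, 1), (57, 1), (58, 1), (59, 1), (60, 1)]),
   (0, [(0, 1), (1, 1), (3, 1), (4, 1), (5, 1), (7, 1), (9, 1), (12, 1), (13, 1), (15, 1), (16, 1), (17, 1), (18, 1), (19, 1), (21, 1), (22, 1), (23, 1), (24, 1), (25, 1), (26, 1), (28, 1), (30, 1), (32, 1), (33, 1), (34, 1), (37, 1), (38, 1), (39, 1), (41, 1), (43, 1), (45, 1), (50, 1), (52, 1), (56, 1), (60, 1)]),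
   (0, [(1, 1), (2, 1), (3, 1), (4, 1), (11, 1), (19, 1), (22, 1), (24, 1), (25, 1), (26, 1), (28, 1), (30, 1), (31, 1), (33, 1), (35, 1), (36, 1), (51, 1), (55, 1), (56, 1), (57, 1)]),
   (0, [(2, 1), (3, 1), (4, 1), (5, 1), (7, 1), (8, 1), (9, 1), (12, 1), (14, 1), (15, 1), (16, 1), (19, 1), (20, 1), (22, 1), (23, 1), (24, 1), (25, 1), (29, 1), (33, 1), (37, 1), (43, 1)])]

def p2Sol_1 : List (ℕ × List (ℕ × ℕ)) :=
  [(0, [(0, 1), (1, 1), (2, 1), (6, 1), (8, 1), (9, 1), (12, 1), (15, 1), (17, 1), (22, 1), (23, 1), (24, 1), (26, 1), (28, 1), (30, 1), (34, 1), (35, 1), (47, 1), (48, 1), (49, 1), (50, 1), (51, 1), (53, 1), (54, 1), (56, 1), (57, 1), (60, 1)]),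
   (0, [(4, 1), (6, 1), (9, 1), (15, 1), (16, 1), (17, 1), (18, 1), (19, 1), (20, 1), (23, 1), (24, 1), (25, 1), (30, 1), (33, 1), (35, 1), (53, 1), (55, 1), (56, 1), (57, 1)]),
   (0, []),
   (0, [(0, 1), (1, 1), (3, 1), (4, 1), (7, 1), (8, 1), (10, 1), (11, 1), (13, 1), (14, 1), (15, 1), (16, 1), (22, 1), (23, 1), (24, 1), (26, 1), (27, 1), (28, 1), (29, 1), (33, 1), (36, 1), (58, 1), (59, 1), (60, 1)]),
   (0, [(2, 1), (4, 1), (5, 1), (6, 1), (8, 1), (9, 1), (10, 1), (11, 1), (14, 1), (18, 1), (21, 1), (25, 1), (27, 1), (30, 1), (31, 1), (33, 1), (36, 1), (57, 1)]),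
   (0, [(0, 1), (1, 1), (2, 1), (3, 1), (5, 1), (8, 1), (10, 1), (12, 1), (14, 1), (15, 1), (16, 1), (17, 1), (19, 1), (20, 1), (21, 1), (22, 1), (26, 1), (29, 1), (31, 1), (32, 1), (35, 1), (51, 1), (54, 1), (56, 1), (57, 1)]),
   (0, [(0, 1), (1, 1), (5, 1), (10, 1), (11, 1), (12, 1), (13, 1), (17, 1), (18, 1), (20, 1), (21, 1), (29, 1), (31, 1), (33, 1), (35, 1), (38, 1), (39, 1), (41, 1), (45, 1), (50, 1), (52, 1)]),
   (0, [(2, 1), (3, 1), (4, 1), (11, 1), (12, 1), (16, 1), (22, 1), (23, 1), (24, 1), (25, 1), (26, 1), (28, 1), (30, 1), (31, 1), (32, 1), (33, 1), (34, 1), (35, 1), (38, 1), (39, 1), (41, 1), (45, 1), (50, 1), (51, 1), (52, 1), (54, 1), (57, 1), (60, 1)]),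
   (0, [(0, 1), (2, 1), (3, 1), (4, 1), (5, 1), (8, 1), (9, 1), (10, 1), (11, 1), (13, 1), (14, 1), (19, 1), (21, 1), (27, 1), (29, 1), (30, 1), (31, 1), (32, 1), (35, 1), (38, 1), (39, 1), (41, 1), (45, 1), (50, 1), (52, 1), (56, 1), (60, 1)]),
   (0, [(1, 1), (2, 1), (3, 1), (10, 1), (11, 1), (12, 1), (13, 1), (15, 1), (16, 1), (17, 1), (19, 1), (20, 1), (21, 1), (24, 1), (25, 1), (30, 1), (32, 1), (35, 1), (36, 1), (55, 1)])]

def p2Sol_2 : List (ℕ × List (ℕ × ℕ)) :=
  [(0, [(0, 1), (1, 1), (4, 1), (5, 1), (8, 1), (9, 1), (13, 1), (14, 1), (16, 1), (18, 1), (22, 1), (26, 1), (28, 1), (30, 1), (31, 1), (32, 1), (38, 1), (39, 1), (41, 1), (45, 1), (50, 1), (52, 1)]),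
   (0, [(1, 1), (2, 1), (3, 1), (4, 1), (6, 1), (7, 1), (11, 1), (20, 1), (22, 1), (24, 1), (26, 1), (28, 1), (29, 1), (30, 1), (31, 1), (32, 1), (51, 1), (57, 1), (58, 1), (59, 1)]),
   (0, [(1, 1), (2, 1), (4, 1), (5, 1), (6, 1), (7, 1), (8, 1), (9, 1), (11, 1), (13, 1), (16, 1), (17, 1), (23, 1), (24, 1), (26, 1), (27, 1), (28, 1), (29, 1), (31, 1), (32, 1), (33, 1), (34, 1), (35, 1), (36, 1), (51, 1), (54, 1), (55, 1), (56, 1), (57, 1), (58, 1), (59, 1), (60, 1)]),
   (0, [(0, 1), (1, 1), (3, 1), (6, 1), (8, 1), (10, 1), (13, 1), (15, 1), (16, 1), (17, 1), (18, 1), (19, 1), (21, 1), (22, 1), (23, 1), (26, 1), (27, 1), (28, 1), (29, 1), (35, 1), (36, 1), (54, 1), (56, 1), (58, 1), (59, 1), (60, 1)]),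
   (0, [(0, 1), (1, 1), (5, 1), (7, 1), (8, 1), (11, 1), (12, 1), (13, 1), (14, 1), (15, 1), (19, 1), (21, 1), (22, 1), (24, 1), (25, 1), (29, 1), (33, 1), (34, 1), (35, 1), (36, 1), (51, 1), (55, 1), (56, 1), (57, 1)]),
   (0, [(1, 1), (6, 1), (8, 1), (11, 1), (12, 1), (13, 1), (14, 1), (15, 1), (16, 1), (17, 1), (18, 1), (19, 1), (22, 1), (23, 1), (24, 1), (25, 1), (28, 1), (29, 1), (34, 1), (35, 1), (51, 1), (55, 1), (57, 1)]),
   (0, [(1, 1), (2, 1), (3, 1), (6, 1), (9, 1), (10, 1), (12, 1), (14, 1), (15, 1), (16, 1), (17, 1), (19, 1), (20, 1), (23, 1), (24, 1), (25, 1), (26, 1), (29, 1), (30, 1), (31, 1), (32, 1), (38, 1), (39, 1), (41, 1), (45, 1), (50, 1), (52, 1), (55, 1)]),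
   (0, [(0, 1), (5, 1), (7, 1), (12, 1), (18, 1), (21, 1), (26, 1), (27, 1), (29, 1), (31, 1), (35, 1), (36, 1), (38, 1), (39, 1), (41, 1), (45, 1), (50, 1), (51, 1), (52, 1), (57, 1)]),
   (0, [(0, 1), (4, 1), (5, 1), (6, 1), (7, 1), (8, 1), (9, 1), (10, 1), (14, 1), (17, 1), (20, 1), (23, 1), (24, 1), (25, 1), (27, 1), (28, 1), (29, 1), (31, 1), (34, 1), (55, 1), (56, 1), (60, 1)]),
   (0, [(0, 1), (1, 1), (2, 1), (4, 1), (7, 1), (9, 1), (10, 1), (12, 1), (13, 1), (15, 1), (17, 1), (19, 1), (20, 1), (23, 1), (24, 1), (25, 1), (27, 1), (29, 1), (32, 1), (34, 1), (38, 1), (39, 1), (41, 1), (45, 1), (50, 1), (52, 1), (56, 1), (60, 1)])]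

def p2Sol_3 : List (ℕ × List (ℕ × ℕ)) :=
  [(0, [(0, 1), (2, 1), (3, 1), (5, 1), (10, 1), (11, 1), (12, 1), (13, 1), (15, 1), (18, 1), (23, 1), (24, 1), (25, 1), (27, 1), (28, 1), (30, 1), (33, 1), (34, 1), (35, 1), (38, 1), (39, 1), (41, 1), (45, 1), (50, 1), (52, 1), (56, 1), (60, 1)]),
   (0, [(1, 1), (7, 1), (12, 1), (13, 1), (14, 1), (21, 1), (27, 1), (28, 1), (30, 1), (32, 1), (34, 1), (35, 1)]),
   (0, [(0, 1), (2, 1), (3, 1), (4, 1), (5, 1), (8, 1), (10, 1), (11, 1), (13, 1), (16, 1), (17, 1), (18, 1), (19, 1), (21, 1), (22, 1), (24, 1), (25, 1), (26, 1), (29, 1), (30, 1), (32, 1), (34, 1), (36, 1), (38, 1), (39, 1), (41, 1), (45, 1), (50, 1), (52, 1), (55, 1)]),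
   (0, [(1, 1), (2, 1), (4, 1), (5, 1), (9, 1), (11, 1), (12, 1), (14, 1), (16, 1), (17, 1), (18, 1), (25, 1), (26, 1), (29, 1), (31, 1), (32, 1), (34, 1), (36, 1)]),
   (0, [(0, 1), (2, 1), (3, 1), (5, 1), (7, 1), (8, 1), (10, 1), (11, 1), (14, 1), (15, 1), (16, 1), (21, 1), (22, 1), (24, 1), (27, 1), (35, 1), (36, 1)]),
   (0, [(1, 1), (2, 1), (4, 1), (5, 1), (9, 1), (11, 1), (12, 1), (14, 1), (16, 1), (17, 1), (18, 1), (25, 1), (26, 1), (29, 1), (32, 1), (34, 1), (36, 1)]),
   (0, [(1, 1), (3, 1), (5, 1), (7, 1), (8, 1), (9, 1), (14, 1), (18, 1), (22, 1), (23, 1), (28, 1), (29, 1), (31, 1), (34, 1), (35, 1), (36, 1), (51, 1), (57, 1), (60, 1)]),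
   (0, [(4, 1), (6, 1), (7, 1), (9, 1), (13, 1), (18, 1), (19, 1), (21, 1), (23, 1), (24, 1), (25, 1), (27, 1), (29, 1), (31, 1), (33, 1), (35, 1)]),
   (0, [(2, 1), (3, 1), (4, 1), (6, 1), (9, 1), (10, 1), (11, 1), (16, 1), (19, 1), (21, 1), (22, 1), (24, 1), (25, 1), (27, 1), (28, 1), (29, 1), (30, 1), (32, 1), (34, 1), (35, 1), (36, 1), (51, 1), (55, 1), (56, 1), (57, 1)]),
   (0, [(1, 1), (3, 1), (4, 1), (5, 1), (6, 1), (8, 1), (11, 1), (13, 1), (16, 1), (17, 1), (18, 1), (19, 1), (20, 1), (28, 1), (29, 1), (32, 1), (33, 1), (35, 1)])]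

def p2Sol_4 : List (ℕ × List (ℕ × ℕ)) :=
  [(0, [(0, 1), (2, 1), (3, 1), (4, 1), (5, 1), (6, 1), (7, 1), (9, 1), (13, 1), (15, 1), (16, 1), (20, 1), (23, 1), (27, 1), (30, 1), (32, 1), (35, 1), (36, 1), (38, 1), (39, 1), (41, 1), (45, 1), (50, 1), (52, 1), (55, 1)]),
   (0, [(2, 1), (3, 1), (4, 1), (6, 1), (9, 1), (12, 1), (13, 1), (15, 1), (16, 1), (18, 1), (20, 1), (21, 1), (23, 1), (24, 1), (26, 1), (29, 1), (30, 1), (31, 1), (32, 1), (36, 1)]),
   (0, [(3, 1), (4, 1), (5, 1), (9, 1), (10, 1), (11, 1), (13, 1), (15, 1), (17, 1), (20, 1), (22, 1), (23, 1), (25, 1), (26, 1), (27, 1), (28, 1), (29, 1), (31, 1), (33, 1), (35, 1), (36, 1)]),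
   (0, [(1, 1), (4, 1), (6, 1), (9, 1), (10, 1), (11, 1), (14, 1), (15, 1), (17, 1), (20, 1), (21, 1), (22, 1), (26, 1), (28, 1), (29, 1), (30, 1), (32, 1), (33, 1)]),
   (0, [(2, 1), (3, 1), (4, 1), (7, 1), (8, 1), (9, 1), (10, 1), (11, 1), (14, 1), (15, 1), (17, 1), (19, 1), (22, 1), (25, 1), (27, 1), (28, 1), (29, 1), (36, 1)]),
   (0, [(1, 1), (6, 1), (8, 1), (9, 1), (10, 1), (13, 1), (14, 1), (16, 1), (17, 1), (18, 1), (19, 1), (20, 1), (22, 1), (23, 1), (24, 1), (25, 1), (26, 1), (27, 1), (28, 1), (32, 1)]),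
   (0, [(1, 1), (7, 1), (13, 1), (14, 1), (15, 1), (16, 1), (21, 1), (27, 1), (28, 1), (30, 1), (32, 1), (34, 1), (35, 1)]),
   (0, [(3, 1), (4, 1), (5, 1), (6, 1), (7, 1), (8, 1), (11, 1), (13, 1), (14, 1), (15, 1), (16, 1), (17, 1), (18, 1), (19, 1), (20, 1), (21, 1), (27, 1), (29, 1), (30, 1), (33, 1), (34, 1)]),
   (0, [(1, 1), (7, 1), (12, 1), (14, 1), (15, 1), (16, 1), (21, 1), (27, 1), (28, 1), (30, 1), (32, 1), (34, 1), (35, 1)]),
   (0, [(1, 1), (3, 1), (4, 1), (5, 1), (7, 1), (9, 1), (10, 1), (21, 1), (22, 1), (23, 1), (24, 1), (25, 1), (26, 1), (27, 1), (28, 1), (29, 1), (30, 1), (32, 1), (33, 1), (34, 1)])]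

def p2Sol_5 : List (ℕ × List (ℕ × ℕ)) :=
  [(0, [(4, 1), (8, 1), (9, 1), (10, 1), (11, 1), (12, 1), (15, 1), (17, 1), (20, 1), (22, 1), (26, 1), (27, 1), (29, 1), (31, 1), (34, 1)]),
   (0, [(1, 1), (6, 1), (8, 1), (9, 1), (11, 1), (13, 1), (16, 1), (21, 1), (31, 1), (32, 1), (33, 1), (34, 1)]),
   (0, [(6, 1), (7, 1), (8, 1), (10, 1), (12, 1), (14, 1), (15, 1), (26, 1), (28, 1), (29, 1), (31, 1), (33, 1), (35, 1)]),
   (0, [(6, 1), (7, 1), (8, 1), (9, 1), (10, 1), (14, 1), (15, 1), (26, 1), (28, 1), (29, 1), (30, 1), (31, 1), (33, 1), (35, 1)]),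
   (0, [(1, 1), (7, 1), (14, 1), (15, 1), (16, 1), (21, 1), (27, 1), (28, 1), (30, 1), (32, 1), (34, 1), (35, 1)])]

def p2Sol : List (ℕ × List (ℕ × ℕ)) :=
  p2Sol_0 ++ p2Sol_1 ++ p2Sol_2 ++ p2Sol_3 ++ p2Sol_4 ++ p2Sol_5

def p2Nf_0 : List (List ℕ) :=
  []

def p2Nf : List (List ℕ) :=
  p2Nf_0

/-- The certificate at 2. -/
def cert2 : CfsgLib.SchurCert.GCert :=
  ⟨2, 10, p2Rels, p2Eqs, p2D, [], p2Sol, p2Nf⟩

def p3Words : List (List ℕ) :=
  [[24, 41, 17, 4, 15, 8, 2, 9, 13, 2, 13, 15, 16],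
   [6, 12, 15, 3, 2, 9, 2, 16, 9, 16],
   [17, 42, 6, 7, 16, 7, 15, 2, 15, 16, 2, 13, 15, 16],
   [4, 15, 1, 7, 11, 2, 13, 2, 13, 9, 2, 16]]

def p3Rels_0 : List (List ℕ × List ℕ) :=
  [([0, 0, 0], []),
   ([1, 0], [0, 1, 2, 2]),
   ([1, 1, 1], []),
   ([2, 0], [0, 2]),
   ([2, 1], [1, 2]),
   ([2, 2, 2], []),
   ([3, 0, 0, 1, 1, 2, 2], [0, 1, 1, 2, 2, 3]),
   ([3, 1, 1], [0, 2, 2, 3]),
   ([3, 2, 2], [2, 2, 3])]

def p3Rels : List (List ℕ × List ℕ) :=
  p3Rels_0

def p3Eqs_0 : List (List ℕ × List Step × List Step) :=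
  [([1, 1, 1, 0], [(2, false, 0)], [(1, false, 2), (1, false, 1), (1, false, 0), (4, false, 3), (4, false, 2), (5, false, 3), (4, false, 3), (2, false, 1), (5, false, 1)]),
   ([3, 0, 0, 1, 1, 2, 2, 0, 0, 1, 1, 2, 2, 0, 0, 1, 1, 2, 2], [(6, false, 0), (6, false, 5), (6, false, 10), (3, false, 4), (3, false, 3), (1, false, 2), (1, false, 1), (4, false, 4), (4, false, 3), (5, false, 4), (5, false, 4), (2, false, 2), (3, false, 4), (3, false, 3), (1, false, 2), (0, false, 0), (5, false, 1), (4, false, 1), (4, false, 2), (2, false, 0), (5, false, 0)], [(3, false, 6), (3, false, 5), (1, false, 4), (1, false, 3), (0, false, 1), (4, false, 3), (4, false, 2), (5, false, 3), (5, false, 3), (1, false, 2), (1, false, 1), (4, false, 4), (4, false, 3), (5, false, 4), (4, false, 4), (2, false, 2), (4, false, 2), (5, false, 3), (1, false, 2), (3, false, 5), (3, false, 4), (1, false, 3), (0, false, 1), (5, false, 2), (4, false, 2), (4, false, 3), (2, false, 1), (5, false, 1)]),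
   ([3, 1, 1, 1, 1, 1, 1], [(7, false, 0), (7, false, 3), (7, false, 6), (3, false, 2), (3, false, 1), (5, false, 2), (3, false, 2), (0, false, 0), (5, false, 0)], [(2, false, 1), (2, false, 1)]),
   ([3, 2, 2, 0, 0, 1, 1, 2, 2], [(8, false, 0), (6, false, 2), (3, false, 1), (3, false, 0), (4, false, 2), (4, false, 1), (4, false, 3), (4, false, 2), (5, false, 3)], [(3, false, 2), (3, false, 1), (3, false, 3), (3, false, 2), (4, false, 4), (4, false, 3), (4, false, 5), (4, false, 4), (5, false, 5), (5, true, 5), (6, false, 0), (8, false, 5), (5, false, 3)]),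
   ([3, 2, 2, 1, 1], [(8, false, 0), (7, false, 2), (3, false, 1), (3, false, 0), (5, false, 1)], [(4, false, 2), (4, false, 1), (4, false, 3), (4, false, 2), (7, false, 0), (8, false, 3), (5, false, 1)])]

def p3Eqs : List (List ℕ × List Step × List Step) :=
  p3Eqs_0

def p3D_0 : List (List ℕ) :=
  [[0, 0, 0, 0, 0, 0, 0, 0, 0],
   [0, 0, 0, 0, 0, 0, 0, 0, 0],
   [0, 2, 0, 0, 0, 0, 0, 0, 0]]

def p3D : List (List ℕ) :=
  p3D_0

def p3Sol_0 : List (ℕ × List (ℕ × ℕ)) :=
  [(0, [(0, 1), (1, 2), (3, 1), (4, 1)]),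
   (0, []),
   (0, [(1, 1), (2, 1), (3, 2), (4, 2)]),
   (0, [(3, 1)]),
   (0, [(3, 2), (4, 2)]),
   (0, [(0, 1)])]

def p3Sol : List (ℕ × List (ℕ × ℕ)) :=
  p3Sol_0

def p3Nf_0 : List (List ℕ) :=
  [[0, 0, 2], [0, 2], [], [1, 1], [0, 1, 1, 2], [0, 0, 1], [0, 1], [0, 1, 2, 2], [1, 2], [0, 1, 2], [1, 1, 2, 2], [0, 1, 1], [1, 1, 2], [2], [0, 0, 1, 2], [0, 0, 2, 2], [0, 0, 1, 2, 2], [0, 0, 1, 1, 2, 2], [0, 0], [1, 2, 2], [0, 0, 1, 1], [2, 2], [0, 0, 1, 1, 2], [0, 2, 2], [0], [1], [0, 1, 1, 2, 2]]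

def p3Nf : List (List ℕ) :=
  p3Nf_0

/-- The certificate at 3. -/
def cert3 : CfsgLib.SchurCert.GCert :=
  ⟨3, 3, p3Rels, p3Eqs, p3D, [], p3Sol, p3Nf⟩

def p5Words : List (List ℕ) :=
  [[3, 42, 13, 21, 1, 23, 2, 15, 2, 13, 2, 16],
   [17, 3, 6, 0, 13, 16, 9, 16, 2, 13],
   [51, 45, 1, 18, 13, 12, 7, 2, 13, 2, 15, 9, 13],
   [27, 16, 18, 8, 21, 21, 16, 2, 13, 15]]

def p5Rels_0 : List (List ℕ × List ℕ) :=
  [([0, 0, 0, 0, 0], []),
   ([1, 0], [0, 1]),
   ([1, 1, 1, 1, 1], []),
   ([2, 0, 0, 0, 0, 1, 1, 1, 1], [0, 1, 1, 1, 2]),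
   ([2, 1, 1, 1, 1], [1, 1, 1, 1, 2]),
   ([3, 0, 0, 0, 0, 1, 1, 1, 1], [0, 0, 1, 3]),
   ([3, 1, 1, 1, 1], [0, 0, 0, 1, 3])]

def p5Rels : List (List ℕ × List ℕ) :=
  p5Rels_0

def p5Eqs_0 : List (List ℕ × List Step × List Step) :=
  [([2, 0, 0, 0, 0, 1, 1, 1, 1, 0, 0, 0, 0, 1, 1, 1, 1, 0, 0, 0, 0, 1, 1, 1, 1, 0, 0, 0, 0, 1, 1, 1, 1, 0, 0, 0, 0, 1, 1, 1, 1], [(3, false, 0), (3, false, 4), (3, false, 8), (3, false, 12), (3, false, 16), (1, false, 3), (1, false, 2), (1, false, 1), (2, false, 2), (1, false, 2), (1, false, 6), (1, false, 5), (1, false, 4), (1, false, 3), (2, false, 4), (1, false, 5), (1, false, 4), (0, false, 0), (2, false, 0)], [(1, false, 8), (1, false, 7), (1, false, 6), (1, false, 5), (0, false, 1), (1, false, 4), (1, false, 3), (1, false, 2), (1, false, 1), (1, false, 5), (1, false, 4), (1, false, 3), (1, false, 2), (1, false, 6), (1, false, 5), (1, false, 4), (1, false, 3), (2, false, 4), (1, false, 6), (1, false, 5), (1, false, 4), (1, false, 7), (1,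 false, 6), (1, false, 5), (0, false, 1), (1, false, 3), (1, false, 2), (1, false, 1), (1, false, 4), (1, false, 3), (1, false, 2), (2, false, 3), (1, false, 4), (1, false, 3), (1, false, 5), (1, false, 4), (1, false, 6), (1, false, 5), (0, false, 1), (1, false, 2), (1, false, 1), (2, false, 2), (1, false, 2), (1, false, 3), (1, false, 4), (1, false, 5), (0, false, 1), (2, false, 1)]),
   ([2, 1, 1, 1, 1, 0, 0, 0, 0, 1, 1, 1, 1], [(4, false, 0), (3, false, 4), (1, false, 3), (1, false, 2), (1, false, 1), (1, false, 0), (2, false, 1)], [(1, false, 4), (1, false, 3), (1, false, 2), (1, false, 1), (1, false, 5), (1, false, 4), (1, false, 3), (1, false, 2), (1, false, 6), (1, false, 5), (1, false, 4), (1, false, 3), (1, false, 7), (1, false, 6), (1, false, 5), (1, false, 4), (2, false, 5), (2, true, 5), (3, false, 0), (4, false, 4), (2, false, 1)]),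
   ([3, 0, 0, 0, 0, 1, 1, 1, 1, 0, 0, 0, 0, 1, 1, 1, 1, 0, 0, 0, 0, 1, 1, 1, 1, 0, 0, 0, 0, 1, 1, 1, 1, 0, 0, 0, 0, 1, 1, 1, 1], [(5, false, 0), (5, false, 3), (5, false, 6), (5, false, 9), (5, false, 12), (1, false, 2), (1, false, 3), (1, false, 5), (1, false, 4), (0, false, 0), (1, false, 1), (1, false, 0), (1, false, 3), (1, false, 2), (1, false, 1), (1, false, 4), (1, false, 3), (1, false, 2), (1, false, 6), (1, false, 5), (1, false, 4), (1, false, 3), (1, false, 7), (1, false, 6), (1, false, 5), (1, false, 4), (0, false, 0), (2, false, 0)], [(1, false, 8), (1, false, 7), (1, false, 6), (1, false, 5), (0, false, 1), (1, false, 4), (1, false, 3), (1, false, 2), (1, false, 1), (1, false, 5), (1, false, 4), (1, false, 3), (1, false, 2), (1, false, 6), (1, false, 5), (1, false, 4), (1, false, 3), (2, false, 4), (1, false, 6), (1, false, 5), (1, false, 4), (1, false, 7), (1, false, 6), (1, false, 5), (0, false, 1), (1, false, 3), (1, false, 2), (1, false, 1), (1, false, 4),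 (1, false, 3), (1, false, 2), (2, false, 3), (1, false, 4), (1, false, 3), (1, false, 5), (1, false, 4), (1, false, 6), (1, false, 5), (0, false, 1), (1, false, 2), (1, false, 1), (2, false, 2), (1, false, 2), (1, false, 3), (1, false, 4), (1, false, 5), (0, false, 1), (2, false, 1)])]

def p5Eqs : List (List ℕ × List Step × List Step) :=
  p5Eqs_0

def p5D_0 : List (List ℕ) :=
  [[0, 0, 0, 0, 0, 0, 0],
   [0, 0, 0, 0, 0, 0, 0]]

def p5D : List (List ℕ) :=
  p5D_0

def p5Sol_0 : List (ℕ × List (ℕ × ℕ)) :=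
  [(0, [(0, 1), (2, 3)]),
   (0, [(1, 2)]),
   (0, [(0, 1), (2, 1)])]

def p5Sol : List (ℕ × List (ℕ × ℕ)) :=
  p5Sol_0

def p5Nf_0 : List (List ℕ) :=
  [[0, 0, 1, 1, 1, 1], [1], [], [1, 1, 1, 1], [0, 0, 0, 1, 1, 1, 1], [0, 1], [0, 0, 1, 1, 1], [0, 0, 1], [0, 0, 0, 0, 1], [0, 1, 1], [0, 0, 0, 0, 1, 1, 1], [0, 1, 1, 1], [0, 0, 0, 1, 1, 1], [0], [1, 1], [0, 0, 0, 0], [0, 0], [0, 0, 0], [0, 0, 0, 1], [1, 1, 1], [0, 0, 0, 0, 1, 1, 1, 1], [0, 1, 1, 1, 1], [0, 0, 1, 1], [0, 0, 0, 1, 1], [0, 0, 0, 0, 1, 1]]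

def p5Nf : List (List ℕ) :=
  p5Nf_0

/-- The certificate at 5. -/
def cert5 : CfsgLib.SchurCert.GCert :=
  ⟨5, 2, p5Rels, p5Eqs, p5D, [], p5Sol, p5Nf⟩

def p7Words : List (List ℕ) :=
  [[1, 33, 6, 50, 3, 15, 9, 2, 13, 2, 13],
   [6, 7, 20, 9, 2, 13, 2, 9, 16],
   [11, 1, 22, 41, 3, 9, 13, 9, 15, 2],
   [17, 45, 17, 20, 13, 21, 13, 9]]

def p7Rels_0 : List (List ℕ × List ℕ) :=
  [([0, 0, 0, 0, 0, 0, 0], []),
   ([1, 0], [0, 1, 2, 2]),
   ([1, 1, 1, 1, 1, 1, 1], []),
   ([2, 0], [0, 2]),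
   ([2, 1], [1, 2]),
   ([2, 2, 2, 2, 2, 2, 2], []),
   ([3, 0, 0, 0, 0, 0, 0, 1, 1, 1, 1, 1, 1, 2, 2, 2, 2, 2, 2], [0, 0, 0, 0, 0, 1, 1, 1, 2, 2, 3]),
   ([3, 1, 1, 1, 1, 1, 1], [1, 1, 1, 2, 2, 2, 2, 2, 3]),
   ([3, 2, 2, 2, 2, 2, 2], [2, 2, 2, 2, 2, 2, 3])]

def p7Rels : List (List ℕ × List ℕ) :=
  p7Rels_0

def p7Eqs_0 : List (List ℕ × List Step × List Step) :=
  [([1, 1, 1, 1, 1, 1, 1, 0], [(2, false, 0)], [(1, false, 6), (1, false, 5), (1, false, 4), (1, false, 3), (1, false, 2), (1, false, 1), (1, false, 0), (4, false, 3), (4, false, 2), (4, false, 6), (4, false, 5), (4, false, 4), (4, false, 3), (4, false, 9), (4, false, 8), (4, false, 7), (4, false, 6), (4, false, 5), (4, false, 4), (5, false, 5), (4, false, 5), (4, false, 8), (4, false, 7), (4, false, 6), (4, false, 11), (4, false, 10), (4, false, 9), (4, false, 8), (4, false, 7), (2, false, 1), (5, false, 1)]),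
   ([3, 0, 0, 0, 0, 0, 0, 1, 1, 1, 1, 1, 1, 2, 2, 2, 2, 2, 2, 0, 0, 0, 0, 0, 0, 1, 1, 1, 1, 1, 1, 2, 2, 2, 2, 2, 2, 0, 0, 0, 0, 0, 0, 1, 1, 1, 1, 1, 1, 2, 2, 2, 2, 2, 2, 0, 0, 0, 0, 0, 0, 1, 1, 1, 1, 1, 1, 2, 2, 2, 2, 2, 2, 0, 0, 0, 0, 0, 0, 1, 1, 1, 1, 1, 1, 2, 2, 2, 2, 2, 2, 0, 0, 0, 0, 0, 0, 1, 1, 1, 1, 1, 1, 2, 2, 2, 2, 2, 2, 0, 0, 0, 0, 0, 0, 1, 1, 1, 1, 1, 1, 2, 2, 2, 2, 2, 2], [(6, false, 0), (6, false, 10), (6, false, 20), (6, false, 30), (6, false, 40), (6, false, 50), (6, false, 60), (3, false, 9), (3, false, 8), (1, false, 7), (1, false, 6), (1, false, 5), (4, false, 8), (4, false, 7), (4, false, 11), (4, false, 10), (4, false, 9), (4, false, 8), (5, false, 9), (3, false, 9), (1, false, 8), (1, false, 7), (1, false, 6), (0, false, 0), (4, false, 2), (4, false, 1), (4, false, 5), (4, false, 4), (4, false, 3), (4, false, 2), (5, false, 3), (1, false, 2), (1, false, 1), (1, false, 0), (4, false, 3), (4, false, 2), (4, false, 6), (4, false, 5), (4, false, 4), (4,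 false, 3), (3, false, 9), (3, false, 8), (3, false, 7), (3, false, 6), (3, false, 5), (3, false, 4), (1, false, 3), (1, false, 2), (1, false, 1), (4, false, 4), (4, false, 3), (4, false, 7), (4, false, 6), (4, false, 5), (4, false, 4), (5, false, 5), (3, false, 9), (3, false, 8), (3, false, 7), (3, false, 6), (3, false, 5), (1, false, 4), (1, false, 3), (1, false, 2), (4, false, 5), (4, false, 4), (4, false, 8), (4, false, 7), (4, false, 6), (4, false, 5), (5, false, 6), (4, false, 9), (4, false, 8), (4, false, 7), (4, false, 6), (4, false, 10), (4, false, 9), (4, false, 8), (4, false, 7), (4, false, 11), (4, false, 10), (4, false, 9), (4, false, 8), (3, false, 14), (3, false, 13), (3, false, 12), (3, false, 11), (3, false, 10), (3, false, 9), (1, false, 8), (1, false, 7), (1, false, 6), (1, false, 5), (1, false, 4), (1, false, 3), (4, false, 6), (4, false, 5), (4, false, 9), (4, false, 8), (4, false, 7), (4, false, 6), (4, false, 12), (4, false, 11), (4, false, 10), (4,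 false, 9), (4, false, 8), (4, false, 7), (5, false, 8), (4, false, 8), (4, false, 11), (4, false, 10), (4, false, 9), (5, false, 10), (3, false, 13), (3, false, 12), (3, false, 11), (3, false, 10), (1, false, 9), (1, false, 8), (1, false, 7), (1, false, 6), (1, false, 5), (1, false, 4), (4, false, 7), (4, false, 6), (4, false, 10), (4, false, 9), (4, false, 8), (4, false, 7), (4, false, 13), (4, false, 12), (4, false, 11), (4, false, 10), (4, false, 9), (4, false, 8), (5, false, 9), (4, false, 9), (4, false, 12), (4, false, 11), (4, false, 10), (5, false, 11), (3, false, 12), (3, false, 11), (1, false, 10), (1, false, 9), (1, false, 8), (1, false, 7), (1, false, 6), (1, false, 5), (4, false, 8), (4, false, 7), (4, false, 11), (4, false, 10), (4, false, 9), (4, false, 8), (4, false, 14), (4, false, 13), (4, false, 12), (4, false, 11), (4, false, 10), (4, false, 9), (5, false, 10), (4, false, 10), (4, false, 13), (4, false, 12), (4, false, 11), (5, false, 12), (1, false, 11),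 (1, false, 10), (1, false, 9), (1, false, 8), (1, false, 7), (1, false, 6), (0, false, 0), (4, false, 2), (4, false, 1), (4, false, 5), (4, false, 4), (4, false, 3), (4, false, 2), (4, false, 8), (4, false, 7), (4, false, 6), (4, false, 5), (4, false, 4), (4, false, 3), (5, false, 4), (4, false, 4), (4, false, 7), (4, false, 6), (4, false, 5), (3, false, 10), (3, false, 9), (3, false, 8), (3, false, 7), (3, false, 6), (1, false, 5), (1, false, 4), (1, false, 3), (1, false, 2), (1, false, 1), (1, false, 0), (4, false, 3), (4, false, 2), (4, false, 6), (4, false, 5), (4, false, 4), (4, false, 3), (4, false, 9), (4, false, 8), (4, false, 7), (4, false, 6), (4, false, 5), (4, false, 4), (5, false, 5), (4, false, 5), (4, false, 8), (4, false, 7), (4, false, 6), (5, false, 7), (4, false, 9), (4, false, 8), (4, false, 7), (2, false, 1), (4, false, 3), (4, false, 2), (4, false, 1), (4, false, 4), (4, false, 3), (4, false, 2), (3, false, 7), (3, false, 6), (3, false, 5), (3, false,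 4), (3, false, 3), (1, false, 2), (1, false, 1), (4, false, 4), (4, false, 3), (5, false, 4), (3, false, 5), (3, false, 4), (1, false, 3), (1, false, 2), (4, false, 5), (4, false, 4), (3, false, 10), (3, false, 9), (3, false, 8), (3, false, 7), (3, false, 6), (3, false, 5), (1, false, 4), (1, false, 3), (4, false, 6), (4, false, 5), (5, false, 6), (3, false, 8), (3, false, 7), (3, false, 6), (1, false, 5), (1, false, 4), (4, false, 7), (4, false, 6), (5, false, 7), (1, false, 6), (1, false, 5), (4, false, 8), (4, false, 7), (4, false, 11), (4, false, 10), (4, false, 9), (4, false, 8), (4, false, 12), (4, false, 11), (4, false, 10), (4, false, 9), (4, false, 13), (4, false, 12), (4, false, 11), (4, false, 10), (3, false, 16), (3, false, 15), (3, false, 14), (3, false, 13), (3, false, 12), (3, false, 11), (1, false, 10), (1, false, 9), (1, false, 8), (1, false, 7), (1, false, 6), (0, false, 0), (4, false, 2), (4, false, 1), (4, false, 5), (4, false, 4), (4, false, 3), (4,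 false, 2), (4, false, 8), (4, false, 7), (4, false, 6), (4, false, 5), (4, false, 4), (4, false, 3), (5, false, 4), (4, false, 4), (5, false, 5), (3, false, 6), (3, false, 5), (1, false, 4), (1, false, 3), (1, false, 2), (1, false, 1), (1, false, 0), (4, false, 3), (4, false, 2), (4, false, 6), (4, false, 5), (4, false, 4), (4, false, 3), (4, false, 9), (4, false, 8), (4, false, 7), (4, false, 6), (4, false, 5), (4, false, 4), (5, false, 5), (4, false, 5), (3, false, 10), (3, false, 9), (3, false, 8), (3, false, 7), (3, false, 6), (1, false, 5), (1, false, 4), (1, false, 3), (1, false, 2), (1, false, 1), (4, false, 4), (4, false, 3), (4, false, 7), (4, false, 6), (4, false, 5), (4, false, 4), (4, false, 10), (4, false, 9), (4, false, 8), (4, false, 7), (4, false, 6), (4, false, 5), (5, false, 6), (4, false, 6), (5, false, 7), (3, false, 7), (1, false, 6), (1, false, 5), (1, false, 4), (1, false, 3), (1, false, 2), (4, false, 5), (4, false, 4), (4, false, 8), (4, false, 7),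 (4, false, 6), (4, false, 5), (4, false, 11), (4, false, 10), (4, false, 9), (4, false, 8), (4, false, 7), (4, false, 6), (5, false, 7), (4, false, 7), (3, false, 11), (3, false, 10), (3, false, 9), (3, false, 8), (1, false, 7), (1, false, 6), (1, false, 5), (1, false, 4), (1, false, 3), (4, false, 6), (4, false, 5), (4, false, 9), (4, false, 8), (4, false, 7), (4, false, 6), (4, false, 12), (4, false, 11), (4, false, 10), (4, false, 9), (4, false, 8), (4, false, 7), (5, false, 8), (4, false, 8), (5, false, 9), (2, false, 4), (3, false, 6), (3, false, 5), (1, false, 4), (3, false, 9), (3, false, 8), (3, false, 7), (3, false, 6), (1, false, 5), (3, false, 12), (3, false, 11), (3, false, 10), (3, false, 9), (3, false, 8), (3, false, 7), (1, false, 6), (0, false, 0), (5, false, 1), (3, false, 1), (1, false, 0), (3, false, 4), (3, false, 3), (3, false, 2), (1, false, 1), (4, false, 7), (4, false, 6), (4, false, 5), (4, false, 4), (4, false, 3), (4, false, 8), (4, false, 7),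 (4, false, 6), (4, false, 5), (4, false, 4), (4, false, 9), (4, false, 8), (4, false, 7), (4, false, 6), (4, false, 5), (5, false, 6), (1, false, 5), (1, false, 4), (1, false, 3), (1, false, 2), (4, false, 5), (4, false, 4), (4, false, 8), (4, false, 7), (4, false, 6), (4, false, 5), (4, false, 11), (4, false, 10), (4, false, 9), (4, false, 8), (4, false, 7), (4, false, 6), (5, false, 7), (3, false, 7), (1, false, 6), (1, false, 5), (1, false, 4), (1, false, 3), (4, false, 6), (4, false, 5), (4, false, 9), (4, false, 8), (4, false, 7), (4, false, 6), (4, false, 12), (4, false, 11), (4, false, 10), (4, false, 9), (4, false, 8), (4, false, 7), (5, false, 8), (3, false, 9), (3, false, 8), (1, false, 7), (1, false, 6), (1, false, 5), (1, false, 4), (4, false, 7), (4, false, 6), (4, false, 10), (4, false, 9), (4, false, 8), (4, false, 7), (4, false, 13), (4, false, 12), (4, false, 11), (4, false, 10), (4, false, 9), (4, false, 8), (5, false, 9), (3, false, 11), (3, false, 10),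 (3, false, 9), (1, false, 8), (1, false, 7), (1, false, 6), (1, false, 5), (4, false, 8), (4, false, 7), (4, false, 11), (4, false, 10), (4, false, 9), (4, false, 8), (4, false, 14), (4, false, 13), (4, false, 12), (4, false, 11), (4, false, 10), (4, false, 9), (5, false, 10), (3, false, 13), (3, false, 12), (3, false, 11), (3, false, 10), (1, false, 9), (1, false, 8), (1, false, 7), (1, false, 6), (0, false, 0), (4, false, 2), (4, false, 1), (4, false, 5), (4, false, 4), (4, false, 3), (4, false, 2), (4, false, 8), (4, false, 7), (4, false, 6), (4, false, 5), (4, false, 4), (4, false, 3), (5, false, 4), (4, false, 8), (4, false, 7), (4, false, 6), (4, false, 5), (4, false, 4), (4, false, 9), (4, false, 8), (4, false, 7), (4, false, 6), (4, false, 5), (4, false, 10), (4, false, 9), (4, false, 8), (4, false, 7), (4, false, 6), (2, false, 0), (5, false, 0)], [(3, false, 18), (3, false, 17), (3, false, 16), (3, false, 15), (3, false, 14), (3, false, 13), (1, false, 12), (1,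 false, 11), (1, false, 10), (1, false, 9), (1, false, 8), (1, false, 7), (0, false, 1), (4, false, 3), (4, false, 2), (4, false, 6), (4, false, 5), (4, false, 4), (4, false, 3), (4, false, 9), (4, false, 8), (4, false, 7), (4, false, 6), (4, false, 5), (4, false, 4), (5, false, 5), (4, false, 5), (4, false, 8), (4, false, 7), (4, false, 6), (5, false, 7), (3, false, 10), (3, false, 9), (3, false, 8), (3, false, 7), (1, false, 6), (1, false, 5), (1, false, 4), (1, false, 3), (1, false, 2), (1, false, 1), (4, false, 4), (4, false, 3), (4, false, 7), (4, false, 6), (4, false, 5), (4, false, 4), (4, false, 10), (4, false, 9), (4, false, 8), (4, false, 7), (4, false, 6), (4, false, 5), (5, false, 6), (4, false, 6), (4, false, 9), (4, false, 8), (4, false, 7), (5, false, 8), (3, false, 9), (3, false, 8), (1, false, 7), (1, false, 6), (1, false, 5), (1, false, 4), (1, false, 3), (1, false, 2), (4, false, 5), (4, false, 4), (4, false, 8), (4, false, 7), (4, false, 6), (4, false,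 5), (4, false, 11), (4, false, 10), (4, false, 9), (4, false, 8), (4, false, 7), (4, false, 6), (5, false, 7), (4, false, 7), (4, false, 10), (4, false, 9), (4, false, 8), (5, false, 9), (1, false, 8), (1, false, 7), (1, false, 6), (1, false, 5), (1, false, 4), (1, false, 3), (4, false, 6), (4, false, 5), (4, false, 9), (4, false, 8), (4, false, 7), (4, false, 6), (4, false, 12), (4, false, 11), (4, false, 10), (4, false, 9), (4, false, 8), (4, false, 7), (5, false, 8), (4, false, 8), (4, false, 11), (4, false, 10), (4, false, 9), (3, false, 14), (3, false, 13), (3, false, 12), (3, false, 11), (3, false, 10), (1, false, 9), (1, false, 8), (1, false, 7), (1, false, 6), (1, false, 5), (1, false, 4), (4, false, 7), (4, false, 6), (4, false, 10), (4, false, 9), (4, false, 8), (4, false, 7), (4, false, 13), (4, false, 12), (4, false, 11), (4, false, 10), (4, false, 9), (4, false, 8), (5, false, 9), (4, false, 9), (4, false, 12), (4, false, 11), (4, false, 10), (5, false, 11),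 (3, false, 13), (3, false, 12), (3, false, 11), (1, false, 10), (1, false, 9), (1, false, 8), (1, false, 7), (1, false, 6), (1, false, 5), (4, false, 8), (4, false, 7), (4, false, 11), (4, false, 10), (4, false, 9), (4, false, 8), (4, false, 14), (4, false, 13), (4, false, 12), (4, false, 11), (4, false, 10), (4, false, 9), (5, false, 10), (4, false, 10), (4, false, 13), (4, false, 12), (4, false, 11), (5, false, 12), (4, false, 12), (2, false, 6), (4, false, 6), (4, false, 7), (4, false, 8), (4, false, 9), (4, false, 10), (5, false, 11), (1, false, 10), (1, false, 9), (1, false, 8), (1, false, 7), (1, false, 6), (4, false, 9), (4, false, 8), (4, false, 12), (4, false, 11), (4, false, 10), (4, false, 9), (4, false, 15), (4, false, 14), (4, false, 13), (4, false, 12), (4, false, 11), (4, false, 10), (5, false, 11), (4, false, 11), (3, false, 14), (3, false, 13), (3, false, 12), (1, false, 11), (1, false, 10), (1, false, 9), (1, false, 8), (1, false, 7), (0, false, 1), (4,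 false, 3), (4, false, 2), (4, false, 6), (4, false, 5), (4, false, 4), (4, false, 3), (4, false, 9), (4, false, 8), (4, false, 7), (4, false, 6), (4, false, 5), (4, false, 4), (5, false, 5), (4, false, 5), (3, false, 11), (3, false, 10), (3, false, 9), (3, false, 8), (3, false, 7), (3, false, 6), (1, false, 5), (1, false, 4), (1, false, 3), (1, false, 2), (1, false, 1), (4, false, 4), (4, false, 3), (4, false, 7), (4, false, 6), (4, false, 5), (4, false, 4), (4, false, 10), (4, false, 9), (4, false, 8), (4, false, 7), (4, false, 6), (4, false, 5), (5, false, 6), (4, false, 6), (5, false, 7), (3, false, 8), (3, false, 7), (1, false, 6), (1, false, 5), (1, false, 4), (1, false, 3), (1, false, 2), (4, false, 5), (4, false, 4), (4, false, 8), (4, false, 7), (4, false, 6), (4, false, 5), (4, false, 11), (4, false, 10), (4, false, 9), (4, false, 8), (4, false, 7), (4, false, 6), (5, false, 7), (4, false, 7), (3, false, 12), (3, false, 11), (3, false, 10), (3, false, 9), (3, false,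 8), (1, false, 7), (1, false, 6), (1, false, 5), (1, false, 4), (1, false, 3), (4, false, 6), (4, false, 5), (4, false, 9), (4, false, 8), (4, false, 7), (4, false, 6), (4, false, 12), (4, false, 11), (4, false, 10), (4, false, 9), (4, false, 8), (4, false, 7), (5, false, 8), (4, false, 8), (5, false, 9), (3, false, 9), (1, false, 8), (1, false, 7), (1, false, 6), (1, false, 5), (1, false, 4), (4, false, 7), (4, false, 6), (4, false, 10), (4, false, 9), (4, false, 8), (4, false, 7), (4, false, 13), (4, false, 12), (4, false, 11), (4, false, 10), (4, false, 9), (4, false, 8), (5, false, 9), (4, false, 9), (4, false, 13), (4, false, 12), (4, false, 11), (4, false, 10), (4, false, 14), (4, false, 13), (4, false, 12), (4, false, 11), (2, false, 5), (4, false, 8), (4, false, 7), (4, false, 6), (4, false, 5), (4, false, 9), (4, false, 8), (4, false, 7), (4, false, 6), (4, false, 10), (4, false, 9), (4, false, 8), (4, false, 7), (4, false, 11), (4, false, 10), (4, false, 9), (4,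 false, 8), (5, false, 9), (3, false, 11), (3, false, 10), (3, false, 9), (1, false, 8), (1, false, 7), (1, false, 6), (1, false, 5), (4, false, 8), (4, false, 7), (4, false, 11), (4, false, 10), (4, false, 9), (4, false, 8), (4, false, 14), (4, false, 13), (4, false, 12), (4, false, 11), (4, false, 10), (4, false, 9), (5, false, 10), (3, false, 13), (3, false, 12), (3, false, 11), (3, false, 10), (1, false, 9), (1, false, 8), (1, false, 7), (1, false, 6), (4, false, 9), (4, false, 8), (4, false, 12), (4, false, 11), (4, false, 10), (4, false, 9), (4, false, 15), (4, false, 14), (4, false, 13), (4, false, 12), (4, false, 11), (4, false, 10), (5, false, 11), (3, false, 15), (3, false, 14), (3, false, 13), (3, false, 12), (3, false, 11), (1, false, 10), (1, false, 9), (1, false, 8), (1, false, 7), (0, false, 1), (4, false, 3), (4, false, 2), (4, false, 6), (4, false, 5), (4, false, 4), (4, false, 3), (4, false, 9), (4, false, 8), (4, false, 7), (4, false, 6), (4, false, 5),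 (4, false, 4), (5, false, 5), (3, false, 10), (3, false, 9), (3, false, 8), (3, false, 7), (3, false, 6), (3, false, 5), (1, false, 4), (1, false, 3), (1, false, 2), (1, false, 1), (4, false, 4), (4, false, 3), (4, false, 7), (4, false, 6), (4, false, 5), (4, false, 4), (4, false, 10), (4, false, 9), (4, false, 8), (4, false, 7), (4, false, 6), (4, false, 5), (5, false, 6), (5, false, 6), (1, false, 5), (1, false, 4), (1, false, 3), (1, false, 2), (4, false, 5), (4, false, 4), (4, false, 8), (4, false, 7), (4, false, 6), (4, false, 5), (4, false, 11), (4, false, 10), (4, false, 9), (4, false, 8), (4, false, 7), (4, false, 6), (5, false, 7), (3, false, 7), (1, false, 6), (1, false, 5), (1, false, 4), (1, false, 3), (4, false, 6), (4, false, 5), (4, false, 9), (4, false, 8), (4, false, 7), (4, false, 6), (4, false, 12), (4, false, 11), (4, false, 10), (4, false, 9), (4, false, 8), (4, false, 7), (5, false, 8), (4, false, 9), (4, false, 8), (4, false, 10), (4, false, 9), (4,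 false, 11), (4, false, 10), (2, false, 4), (4, false, 5), (4, false, 4), (4, false, 6), (4, false, 5), (4, false, 7), (4, false, 6), (5, false, 7), (3, false, 7), (1, false, 6), (1, false, 5), (1, false, 4), (4, false, 7), (4, false, 6), (4, false, 10), (4, false, 9), (4, false, 8), (4, false, 7), (5, false, 8), (1, false, 7), (1, false, 6), (1, false, 5), (4, false, 8), (4, false, 7), (4, false, 11), (4, false, 10), (4, false, 9), (4, false, 8), (3, false, 14), (3, false, 13), (3, false, 12), (3, false, 11), (3, false, 10), (3, false, 9), (1, false, 8), (1, false, 7), (1, false, 6), (4, false, 9), (4, false, 8), (4, false, 12), (4, false, 11), (4, false, 10), (4, false, 9), (5, false, 10), (3, false, 14), (3, false, 13), (3, false, 12), (3, false, 11), (3, false, 10), (1, false, 9), (1, false, 8), (1, false, 7), (0, false, 1), (4, false, 3), (4, false, 2), (4, false, 6), (4, false, 5), (4, false, 4), (4, false, 3), (5, false, 4), (3, false, 7), (3, false, 6), (3, false,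 5), (3, false, 4), (1, false, 3), (1, false, 2), (1, false, 1), (4, false, 4), (4, false, 3), (4, false, 7), (4, false, 6), (4, false, 5), (4, false, 4), (5, false, 5), (3, false, 7), (3, false, 6), (3, false, 5), (1, false, 4), (1, false, 3), (1, false, 2), (4, false, 5), (4, false, 4), (4, false, 8), (4, false, 7), (4, false, 6), (4, false, 5), (5, false, 6), (4, false, 7), (4, false, 6), (4, false, 8), (4, false, 7), (4, false, 9), (4, false, 8), (4, false, 10), (4, false, 9), (2, false, 3), (4, false, 4), (4, false, 3), (4, false, 5), (4, false, 4), (5, false, 5), (3, false, 5), (1, false, 4), (1, false, 3), (4, false, 6), (4, false, 5), (3, false, 10), (3, false, 9), (3, false, 8), (3, false, 7), (3, false, 6), (1, false, 5), (1, false, 4), (4, false, 7), (4, false, 6), (5, false, 7), (3, false, 8), (3, false, 7), (1, false, 6), (1, false, 5), (4, false, 8), (4, false, 7), (3, false, 13), (3, false, 12), (3, false, 11), (3, false, 10), (3, false, 9), (3, false, 8),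 (1, false, 7), (1, false, 6), (4, false, 9), (4, false, 8), (5, false, 9), (3, false, 11), (3, false, 10), (3, false, 9), (1, false, 8), (1, false, 7), (0, false, 1), (4, false, 3), (4, false, 2), (5, false, 3), (1, false, 2), (1, false, 1), (4, false, 4), (4, false, 3), (4, false, 7), (4, false, 6), (4, false, 5), (4, false, 4), (4, false, 8), (4, false, 7), (4, false, 6), (4, false, 5), (4, false, 9), (4, false, 8), (4, false, 7), (4, false, 6), (4, false, 10), (4, false, 9), (4, false, 8), (4, false, 7), (4, false, 11), (4, false, 10), (4, false, 9), (4, false, 8), (2, false, 2), (4, false, 5), (4, false, 4), (4, false, 3), (4, false, 2), (5, false, 3), (3, false, 5), (3, false, 4), (3, false, 3), (1, false, 2), (3, false, 8), (3, false, 7), (3, false, 6), (3, false, 5), (3, false, 4), (1, false, 3), (5, false, 5), (1, false, 4), (3, false, 7), (3, false, 6), (1, false, 5), (3, false, 10), (3, false, 9), (3, false, 8), (3, false, 7), (1, false, 6), (3, false, 13), (3,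 false, 12), (3, false, 11), (3, false, 10), (3, false, 9), (3, false, 8), (1, false, 7), (0, false, 1), (5, false, 2), (4, false, 2), (4, false, 3), (4, false, 4), (4, false, 5), (4, false, 6), (4, false, 7), (2, false, 1), (5, false, 1)]),
   ([3, 1, 1, 1, 1, 1, 1, 1, 1, 1, 1, 1, 1, 1, 1, 1, 1, 1, 1, 1, 1, 1, 1, 1, 1, 1, 1, 1, 1, 1, 1, 1, 1, 1, 1, 1, 1, 1, 1, 1, 1, 1, 1], [(7, false, 0), (7, false, 8), (7, false, 16), (7, false, 24), (7, false, 32), (7, false, 40), (7, false, 48), (4, false, 7), (4, false, 6), (4, false, 5), (4, false, 4), (4, false, 3), (4, false, 8), (4, false, 7), (4, false, 6), (4, false, 5), (4, false, 4), (4, false, 9), (4, false, 8), (4, false, 7), (4, false, 6), (4, false, 5), (5, false, 6), (4, false, 8), (4, false, 7), (4, false, 6), (2, false, 0), (4, false, 2), (4, false, 1), (4, false, 0), (4, false, 3), (4, false, 2), (4, false, 1), (5, false, 2), (4, false, 2), (4, false, 3), (4, false, 4), (4, false, 10), (4, false, 9), (4, false, 8), (4,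 false, 7), (4, false, 6), (4, false, 5), (4, false, 11), (4, false, 10), (4, false, 9), (4, false, 8), (4, false, 7), (4, false, 6), (2, false, 0), (4, false, 5), (4, false, 4), (4, false, 3), (4, false, 2), (4, false, 1), (4, false, 0), (5, false, 1), (4, false, 4), (4, false, 3), (4, false, 2), (4, false, 1), (4, false, 5), (4, false, 4), (4, false, 3), (4, false, 2), (4, false, 6), (4, false, 5), (4, false, 4), (4, false, 3), (5, false, 4), (4, false, 5), (4, false, 4), (4, false, 6), (4, false, 5), (4, false, 7), (4, false, 6), (2, false, 0), (5, false, 0)], [(2, false, 1), (2, false, 1), (2, false, 1), (2, false, 1), (2, false, 1), (2, false, 1)]),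
   ([3, 2, 2, 2, 2, 2, 2, 0, 0, 0, 0, 0, 0, 1, 1, 1, 1, 1, 1, 2, 2, 2, 2, 2, 2], [(8, false, 0), (6, false, 6), (3, false, 5), (3, false, 4), (3, false, 3), (3, false, 2), (3, false, 1), (3, false, 0), (3, false, 6), (3, false, 5), (3, false, 4), (3, false, 3), (3, false, 2), (3, false, 1), (3, false, 7), (3, false, 6), (3, false, 5), (3, false, 4), (3, false, 3), (3, false, 2), (3, false, 8), (3, false, 7), (3, false, 6), (3, false, 5), (3, false, 4), (3, false, 3), (3, false, 9), (3, false, 8), (3, false, 7), (3, false, 6), (3, false, 5), (3, false, 4), (4, false, 10), (4, false, 9), (4, false, 8), (4, false, 7), (4, false, 6), (4, false, 5), (4, false, 11), (4, false, 10), (4, false, 9), (4, false, 8), (4, false, 7), (4, false, 6), (4, false, 12), (4, false, 11), (4, false, 10), (4, false, 9), (4, false, 8), (4, false, 7), (5, false, 8)], [(3, false, 6), (3, false, 5), (3, false, 4), (3, false, 3), (3, false, 2), (3, false, 1), (3, false, 7), (3, false, 6), (3, false,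 5), (3, false, 4), (3, false, 3), (3, false, 2), (3, false, 8), (3, false, 7), (3, false, 6), (3, false, 5), (3, false, 4), (3, false, 3), (3, false, 9), (3, false, 8), (3, false, 7), (3, false, 6), (3, false, 5), (3, false, 4), (3, false, 10), (3, false, 9), (3, false, 8), (3, false, 7), (3, false, 6), (3, false, 5), (3, false, 11), (3, false, 10), (3, false, 9), (3, false, 8), (3, false, 7), (3, false, 6), (4, false, 12), (4, false, 11), (4, false, 10), (4, false, 9), (4, false, 8), (4, false, 7), (4, false, 13), (4, false, 12), (4, false, 11), (4, false, 10), (4, false, 9), (4, false, 8), (4, false, 14), (4, false, 13), (4, false, 12), (4, false, 11), (4, false, 10), (4, false, 9), (4, false, 15), (4, false, 14), (4, false, 13), (4, false, 12), (4, false, 11), (4, false, 10), (4, false, 16), (4, false, 15), (4, false, 14), (4, false, 13), (4, false, 12), (4, false, 11), (4, false, 17), (4, false, 16), (4, false, 15), (4, false, 14), (4, false, 13), (4, false, 12), (5,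 false, 13), (5, true, 13), (6, false, 0), (8, false, 10), (5, false, 8)]),
   ([3, 2, 2, 2, 2, 2, 2, 1, 1, 1, 1, 1, 1], [(8, false, 0), (7, false, 6), (4, false, 5), (4, false, 4), (4, false, 3), (4, false, 2), (4, false, 1), (4, false, 0), (4, false, 6), (4, false, 5), (4, false, 4), (4, false, 3), (4, false, 2), (4, false, 1), (4, false, 7), (4, false, 6), (4, false, 5), (4, false, 4), (4, false, 3), (4, false, 2), (5, false, 3)], [(4, false, 6), (4, false, 5), (4, false, 4), (4, false, 3), (4, false, 2), (4, false, 1), (4, false, 7), (4, false, 6), (4, false, 5), (4, false, 4), (4, false, 3), (4, false, 2), (4, false, 8), (4, false, 7), (4, false, 6), (4, false, 5), (4, false, 4), (4, false, 3), (4, false, 9), (4, false, 8), (4, false, 7), (4, false, 6), (4, false, 5), (4, false, 4), (4, false, 10), (4, false, 9), (4, false, 8), (4, false, 7), (4, false, 6), (4, false, 5), (4, false, 11), (4, false, 10), (4, false, 9), (4, false, 8), (4, false, 7), (4, false, 6), (7,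 false, 0), (8, false, 8), (5, false, 3)])]

def p7Eqs : List (List ℕ × List Step × List Step) :=
  p7Eqs_0

def p7D_0 : List (List ℕ) :=
  [[0, 0, 0, 0, 0, 0, 0, 0, 0],
   [0, 0, 0, 0, 0, 0, 0, 0, 0],
   [0, 4, 0, 0, 0, 0, 0, 0, 0]]

def p7D : List (List ℕ) :=
  p7D_0

def p7Sol_0 : List (ℕ × List (ℕ × ℕ)) :=
  [(0, [(0, 4), (1, 6), (2, 1)]),
   (0, []),
   (0, [(0, 5), (2, 2)]),
   (0, [(3, 1), (4, 6)]),
   (0, [(4, 5)]),
   (0, [(0, 3)])]

def p7Sol : List (ℕ × List (ℕ × ℕ)) :=
  p7Sol_0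

def p7Nf_0 : List (List ℕ) :=
  [[0, 0, 0, 2], [0, 0, 0, 0, 0, 0, 1, 1, 1, 1, 2], [0, 1, 1, 2, 2, 2, 2], [0, 0, 0, 0, 1, 1, 1, 2, 2, 2, 2], [1, 2, 2, 2], [0, 0, 0, 0, 0, 1, 1, 1, 1, 1, 2, 2, 2, 2, 2, 2], [1, 1], [0, 0, 0, 0, 0, 1, 1, 1, 2, 2, 2, 2, 2], [0, 0, 0, 0, 0, 1, 2, 2, 2, 2], [0, 1, 1], [0, 0, 0, 0, 0, 0, 1, 2, 2, 2, 2, 2], [1, 1, 2, 2, 2, 2], [0, 0, 0, 0, 0, 1, 1, 1, 1, 2, 2, 2], [0, 0, 0, 0, 0, 0, 1, 1, 1, 1, 1, 2, 2, 2, 2], [0, 0, 1, 1, 1, 1, 1, 2, 2, 2, 2, 2, 2], [0, 0, 0, 0, 1, 1, 1, 1, 1], [0, 1, 2, 2, 2, 2, 2], [1, 1, 1, 1, 1, 2], [0, 0, 0], [0, 0, 1, 1, 2, 2, 2, 2], [0, 1, 1, 2, 2], [0, 0, 0, 0, 2], [0, 0, 0, 0, 0, 1, 2, 2, 2, 2, 2], [0, 0, 0, 1, 1, 1, 1, 2, 2, 2], [0, 0, 0, 0, 0, 0, 1, 1, 1, 2, 2, 2, 2], [0, 0, 0, 0], [2, 2, 2, 2, 2, 2], [0, 1, 1, 1, 1, 2, 2, 2, 2, 2], [0, 0, 1, 1], [0, 1, 1, 1, 1, 1, 1, 2, 2, 2, 2], [], [1, 1, 1, 1, 1, 1, 2, 2, 2, 2], [0, 0, 1, 1, 1, 1, 2, 2], [0, 0, 1, 1, 2], [0, 0, 0, 0, 0, 2, 2, 2, 2, 2], [0, 1, 2, 2], [0, 0, 0, 1,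 1, 1], [0, 0, 0, 1, 1, 1, 1, 1, 1, 2, 2, 2, 2, 2, 2], [0, 0, 0, 0, 0, 1, 1, 1, 1, 2], [0, 0, 1, 2, 2, 2, 2, 2], [0, 0, 0, 0, 0, 0, 1, 1, 2, 2, 2], [0, 0, 1, 1, 1, 2, 2, 2], [1, 1, 1, 1, 2, 2], [0, 0, 0, 1, 1, 1, 1, 1, 2, 2, 2, 2, 2, 2], [0, 0, 0, 0, 0, 1, 1, 1, 1, 1, 1, 2], [0, 0, 0, 0, 1, 2, 2, 2, 2, 2, 2], [0, 0, 0, 0, 0, 1, 1, 1, 1, 1, 1, 2, 2, 2], [0, 0, 0, 0, 0, 1, 1, 1, 2, 2, 2], [0, 0, 0, 1, 1, 1, 1, 2, 2, 2, 2, 2, 2], [1, 1, 2], [0, 0, 0, 0, 2, 2, 2, 2, 2], [0, 1, 1, 1, 1, 1, 1], [1, 1, 1, 1, 1, 1, 2, 2, 2], [1, 1, 1, 1, 2], [0, 0, 0, 1, 1, 2, 2], [0, 0, 0, 0, 0, 0, 1, 1, 2, 2], [1, 1, 2, 2, 2, 2, 2], [0, 0, 0, 0, 1, 1, 2, 2, 2, 2, 2, 2], [0, 0, 0, 1, 1, 1, 1, 2], [0, 0, 0, 0, 0, 0, 1, 1, 1, 1], [0, 0, 0, 0, 1, 1, 1, 1, 1, 2, 2, 2], [0, 0, 0, 0, 0, 1, 1, 1, 1, 1, 1, 2, 2, 2, 2, 2], [0, 0, 0, 0, 0, 1, 1, 1, 1, 2, 2, 2, 2], [0, 0, 0, 1, 1, 2, 2, 2, 2, 2, 2], [0, 0, 0, 0, 0, 1, 1, 1, 1], [0, 0, 0, 0, 0, 0, 1, 1, 1, 1, 1, 2], [0, 0, 0, 0, 0, 1, 1, 2, 2, 2, 2, 2], [0,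 0, 0, 0, 1, 1, 1, 1, 1, 1], [0, 0, 1], [0, 0, 0, 0, 0], [0, 0, 0, 0, 1, 1, 1, 1, 1, 2, 2, 2, 2, 2, 2], [0, 0, 0, 0, 0, 0, 2, 2], [1, 1, 1, 2, 2, 2], [0, 0, 0, 1, 1], [0, 0, 0, 0, 1, 1, 1, 1, 1, 1, 2, 2, 2, 2, 2], [0, 2], [0, 0, 0, 0, 0, 0, 1], [0, 0, 0, 0, 0, 1, 1, 2, 2, 2], [1], [0, 0, 0, 0, 0, 0, 1, 1, 1, 1, 1, 1, 2], [1, 1, 1, 2, 2, 2, 2], [0, 0, 0, 1, 1, 1, 1, 1, 2, 2, 2, 2], [0, 0, 1, 1, 1, 1, 1, 2, 2, 2, 2], [0, 0, 0, 0, 1, 1, 2, 2], [1, 2, 2, 2, 2], [0, 0, 0, 0, 0, 0, 1, 1, 1, 1, 1], [0, 0, 0, 0, 0, 1, 2], [0, 0, 1, 1, 1, 1, 1, 1, 2, 2, 2, 2, 2], [0, 0, 0, 0, 1, 2, 2, 2, 2, 2], [0, 0, 0, 0, 0, 2], [0, 1, 1, 1, 2, 2, 2, 2, 2], [0, 0, 1, 1, 1, 1, 1, 1, 2], [0, 1, 1, 1, 1, 1, 1, 2, 2, 2, 2, 2], [1, 1, 1, 1], [0, 0, 1, 1, 1, 2, 2, 2, 2, 2, 2], [1, 1, 1, 1, 1, 1, 2, 2, 2, 2, 2, 2], [0, 0, 0, 0, 0, 0, 2, 2, 2], [0, 0, 0, 2, 2, 2, 2, 2], [0], [0, 0, 0, 1, 1, 1, 1, 1, 2, 2, 2, 2, 2]]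

def p7Nf_1 : List (List ℕ) :=
  [[0, 0, 0, 0, 0, 1, 1, 2, 2], [0, 0, 0, 0, 1, 1, 1, 1, 1, 2, 2, 2, 2], [0, 0, 0, 0, 0, 1, 1, 2], [1, 1, 1, 2, 2], [0, 0, 0, 1, 1, 2, 2, 2, 2, 2], [0, 0, 0, 0, 0, 1, 1, 1, 1, 1, 1, 2, 2, 2, 2, 2, 2], [0, 0, 0, 0, 0, 0, 1, 1], [0, 0, 0, 0, 1, 1, 1, 1], [2, 2, 2, 2, 2], [0, 1, 1, 1, 1], [0, 0, 0, 0, 0, 1, 1, 1, 1, 1, 2], [0, 0, 0, 0, 0, 0, 1, 1, 2, 2, 2, 2, 2, 2], [0, 0, 0, 0, 0, 2, 2], [0, 0, 0, 0, 0, 1, 2, 2, 2], [0, 0, 1, 1, 1, 2], [0, 0, 0, 1, 1, 1, 1, 2, 2], [0, 0, 0, 0, 1, 1, 1, 1, 2, 2, 2, 2, 2, 2], [0, 0, 2], [0, 0, 0, 0, 0, 0, 1, 2, 2, 2], [0, 0, 0, 0, 0, 0, 1, 1, 2, 2, 2, 2], [0, 0, 0, 2, 2, 2], [0, 1, 1, 1, 1, 1], [0, 0, 0, 0, 0, 0, 1, 1, 1, 1, 1, 2, 2, 2, 2, 2, 2], [0, 0, 1, 1, 1, 1, 2, 2, 2], [0, 0, 1, 1, 2, 2, 2, 2, 2], [0, 0, 0, 0, 0, 0, 1, 1, 2], [0, 1, 1, 1, 1, 2], [0, 1, 1, 1, 1, 1, 1, 2, 2, 2], [0, 0, 0, 1, 2, 2, 2, 2, 2], [0, 0, 0, 2, 2, 2, 2, 2, 2], [0, 0, 1, 1, 1, 2, 2, 2, 2, 2], [0, 0, 0, 1, 1, 1, 1, 1, 2], [0, 0, 0, 0,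 1], [0, 0, 0, 0, 0, 1, 1, 1, 2, 2, 2, 2, 2, 2], [0, 0, 0, 0, 0, 0], [0, 0, 0, 0, 0, 0, 1, 1, 1, 1, 1, 1, 2, 2], [0, 0, 0, 1, 2, 2, 2], [1, 1, 1, 1, 1, 2, 2, 2, 2], [0, 0, 1, 1, 1, 2, 2], [0, 0, 0, 0, 1, 1, 1, 1, 2, 2], [0, 1, 1, 1, 1, 1, 2, 2, 2, 2], [0, 0, 0, 1, 1, 1, 1, 1, 1, 2, 2, 2, 2, 2], [0, 0, 0, 1, 1, 1, 1, 2, 2, 2, 2], [0, 1, 1, 2, 2, 2, 2, 2], [0, 1, 1, 1, 1, 2, 2, 2, 2, 2, 2], [1, 1, 1, 1, 1, 1, 2, 2, 2, 2, 2], [0, 1, 1, 1, 1, 1, 2, 2, 2, 2, 2], [0, 0, 0, 0, 1, 1, 1, 2, 2], [0, 0, 2, 2, 2, 2, 2, 2], [0, 1, 1, 1, 1, 1, 1, 2], [1, 1, 1, 1, 2, 2, 2, 2], [0, 2, 2, 2, 2, 2, 2], [0, 2, 2, 2, 2], [0, 0, 0, 0, 1, 1, 1, 2, 2, 2, 2, 2, 2], [0, 0, 0, 1, 1, 2, 2, 2], [0, 0, 0, 0, 1, 1, 1, 1, 1, 2, 2, 2, 2, 2], [0, 0, 0, 0, 1, 1, 1, 2], [0, 1, 1, 1, 1, 2, 2, 2], [0, 1, 1, 1, 1, 1, 2, 2], [0, 0, 0, 0, 1, 1, 1, 1, 1, 1, 2, 2, 2, 2], [0, 0, 1, 2, 2, 2], [0, 0, 0, 0, 0, 1, 1, 1, 1, 1, 1, 2, 2, 2, 2], [0, 0, 0, 0, 0, 0, 1, 1, 1], [0, 0, 0, 0, 0, 0, 1, 1, 1, 2, 2, 2, 2, 2, 2], [0,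 0, 1, 2, 2, 2, 2, 2, 2], [1, 1, 1, 1, 1, 2, 2, 2, 2, 2, 2], [1, 1, 1, 1, 1, 1, 2, 2], [0, 1, 1, 1, 1, 1, 2, 2, 2, 2, 2, 2], [0, 0, 0, 0, 1, 1, 1, 1, 1, 1, 2], [0, 0, 1, 1, 1, 1, 1], [0, 0, 0, 0, 0, 1, 2, 2], [0, 0, 0, 1, 1, 2, 2, 2, 2], [0, 0, 0, 1, 2, 2], [0, 0, 0, 0, 1, 1, 2, 2, 2], [0, 0, 0, 0, 1, 2, 2], [0, 1, 2, 2, 2], [0, 0, 0, 0, 0, 0, 2, 2, 2, 2, 2, 2], [0, 0, 0, 1, 1, 1, 2, 2, 2, 2, 2, 2], [0, 0, 0, 0, 0, 0, 1, 1, 1, 2, 2, 2], [0, 0, 1, 1, 1], [0, 0, 1, 1, 1, 1, 2], [0, 0, 0, 0, 0, 0, 1, 1, 1, 1, 1, 1, 2, 2, 2, 2, 2, 2], [0, 0, 0, 0, 0, 1, 1, 1, 1, 1, 2, 2, 2], [0, 0, 0, 0, 1, 1, 1, 2, 2, 2, 2, 2], [1, 1, 1, 1, 1, 1, 2], [0, 0, 0, 0, 0, 0, 1, 1, 1, 2, 2], [0, 0, 0, 0, 0, 0, 1, 1, 1, 1, 1, 1, 2, 2, 2], [0, 0, 1, 1, 1, 1], [0, 1, 1, 1, 1, 1, 1, 2, 2], [0, 0, 0, 0, 2, 2, 2], [0, 1, 1, 2, 2, 2], [0, 0, 0, 0, 0, 1, 1, 1, 1, 1, 1, 2, 2], [0, 0, 0, 0, 0, 0, 2, 2, 2, 2], [1, 2, 2], [0, 1, 1, 1, 1, 2, 2], [0, 0, 0, 0, 0, 0, 1, 1, 1, 1, 1, 2, 2], [0, 0, 0, 0, 0, 0, 2, 2,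 2, 2, 2], [0, 0, 0, 0, 0, 2, 2, 2], [2, 2, 2, 2], [0, 1, 1, 1, 1, 1, 2]]

def p7Nf_2 : List (List ℕ) :=
  [[1, 1, 2, 2], [0, 0, 0, 0, 1, 1, 1, 1, 1, 1, 2, 2, 2, 2, 2, 2], [0, 0, 1, 1, 1, 1, 1, 1, 2, 2, 2, 2], [0, 1, 1, 1, 1, 1, 2, 2, 2], [0, 0, 0, 0, 0, 0, 1, 1, 1, 2, 2, 2, 2, 2], [0, 0, 0, 0, 0, 0, 1, 1, 1, 2], [1, 1, 1, 1, 2, 2, 2, 2, 2], [1, 1, 1, 2, 2, 2, 2, 2], [0, 0, 0, 0, 1, 1, 1, 1, 2, 2, 2, 2, 2], [0, 0, 1, 1, 1, 1, 1, 1], [0, 0, 1, 2, 2, 2, 2], [0, 1, 1, 1, 2], [0, 0, 0, 2, 2], [1, 1, 1, 2], [0, 0, 0, 0, 0, 1], [0, 0, 1, 2, 2], [0, 0, 0, 0, 0, 1, 1, 1, 1, 1, 1], [0, 0, 0, 0, 1, 2, 2, 2], [0, 0, 0, 1, 1, 1, 2], [0, 0, 0, 1, 1, 1, 1, 1, 2, 2], [0, 0, 0, 0, 0, 0, 1, 1, 1, 1, 2, 2], [0, 0], [0, 0, 0, 1, 1, 1, 1], [0, 2, 2, 2], [0, 0, 0, 0, 0, 0, 1, 1, 1, 1, 1, 2, 2, 2], [0, 0, 0, 0, 0, 1, 1], [0, 0, 0, 0, 0, 1, 1, 1, 2, 2, 2, 2], [0, 0, 0, 1, 1, 1, 1, 1, 1, 2, 2], [1, 2], [0, 0, 1, 1, 1, 1, 1, 2, 2], [0, 1, 1, 1, 1, 2, 2, 2, 2], [0, 0, 0, 0, 0, 0, 1, 1, 1, 1, 2, 2,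 2, 2, 2, 2], [1, 2, 2, 2, 2, 2], [0, 0, 0, 1, 1, 1, 1, 2, 2, 2, 2, 2], [0, 1, 2], [1, 1, 1, 1, 2, 2, 2], [0, 1, 2, 2, 2, 2, 2, 2], [0, 0, 0, 1, 2, 2, 2, 2], [0, 0, 0, 0, 0, 0, 1, 1, 1, 1, 1, 2, 2, 2, 2, 2], [0, 0, 2, 2, 2, 2], [0, 0, 0, 1, 1, 2], [1, 1, 1, 1, 1], [0, 0, 1, 1, 1, 1, 2, 2, 2, 2], [2, 2], [0, 0, 2, 2, 2, 2, 2], [0, 2, 2, 2, 2, 2], [1, 1, 1, 2, 2, 2, 2, 2, 2], [0, 0, 0, 0, 0, 1, 1, 1, 1, 1, 2, 2, 2, 2], [0, 0, 2, 2], [0, 0, 0, 1, 1, 1, 2, 2, 2, 2, 2], [0, 1, 1, 2, 2, 2, 2, 2, 2], [0, 0, 1, 1, 1, 1, 2, 2, 2, 2, 2, 2], [0, 0, 1, 1, 1, 1, 1, 2, 2, 2, 2, 2], [0, 0, 1, 2], [0, 0, 0, 0, 1, 1, 2, 2, 2, 2], [0, 0, 1, 1, 1, 1, 2, 2, 2, 2, 2], [0, 0, 0, 0, 0, 1, 2, 2, 2, 2, 2, 2], [0, 1, 1, 1, 1, 1, 1, 2, 2, 2, 2, 2, 2], [0, 0, 0, 1], [0, 0, 0, 0, 1, 1, 1, 2, 2, 2], [0, 0, 0, 0, 0, 0, 1, 2], [0, 0, 0, 0, 0, 1, 1, 1, 1, 1], [0, 0, 0, 0, 0, 0, 1, 2, 2, 2, 2, 2, 2], [0, 1, 2, 2, 2, 2], [1, 1, 1, 1, 1, 1], [0, 0, 0, 0, 0, 0, 1, 2, 2, 2, 2], [0, 0, 1, 1, 1, 1, 1, 2], [0, 0,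 0, 0, 0, 1, 1, 1, 2], [0, 0, 0, 0, 2, 2, 2, 2], [0, 0, 0, 0, 1, 1, 1, 1, 2, 2, 2], [0, 0, 0, 0, 0, 1, 1, 1, 1, 1, 2, 2], [0, 1, 1, 1, 2, 2, 2, 2, 2, 2], [0, 1, 1, 1, 2, 2, 2], [0, 0, 1, 1, 1, 1, 1, 1, 2, 2, 2, 2, 2, 2], [0, 0, 0, 0, 1, 1, 1], [0, 0, 0, 0, 0, 0, 1, 1, 1, 1, 2, 2, 2, 2, 2], [0, 0, 0, 2, 2, 2, 2], [0, 0, 2, 2, 2], [0, 0, 1, 1, 2, 2], [0, 0, 0, 0, 1, 1, 1, 1, 1, 2, 2], [0, 0, 0, 0, 0, 0, 1, 1, 2, 2, 2, 2, 2], [0, 0, 0, 1, 1, 1, 2, 2], [0, 0, 0, 0, 0, 0, 1, 2, 2], [0, 0, 0, 0, 0, 2, 2, 2, 2, 2, 2], [0, 0, 0, 1, 2], [0, 0, 0, 0, 0, 1, 1, 2, 2, 2, 2], [0, 0, 0, 1, 1, 1, 1, 1], [0, 0, 0, 0, 0, 1, 1, 1], [1, 1, 1, 1, 2, 2, 2, 2, 2, 2], [0, 0, 0, 0, 1, 1], [1, 1, 1, 1, 1, 2, 2], [0, 1, 1, 2], [0, 0, 0, 0, 0, 2, 2, 2, 2], [1, 1, 1, 1, 1, 2, 2, 2, 2, 2], [0, 2, 2], [0, 0, 0, 0, 1, 1, 1, 1, 1, 2], [0, 1, 1, 1, 2, 2, 2, 2], [0, 0, 1, 1, 1, 1, 1, 1, 2, 2], [0, 0, 0, 0, 2, 2], [0, 0, 0, 1, 2, 2, 2, 2, 2, 2]]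

def p7Nf_3 : List (List ℕ) :=
  [[0, 0, 0, 0, 1, 2], [0, 0, 0, 1, 1, 1, 1, 1, 2, 2, 2], [0, 0, 0, 0, 0, 1, 1, 1, 1, 2, 2, 2, 2, 2], [0, 0, 0, 1, 1, 1, 1, 1, 1, 2, 2, 2], [0, 0, 0, 1, 1, 1, 1, 1, 1, 2, 2, 2, 2], [2, 2, 2], [0, 0, 0, 0, 0, 1, 1, 1, 1, 1, 2, 2, 2, 2, 2], [0, 0, 0, 0, 1, 1, 2], [0, 0, 0, 0, 0, 1, 1, 1, 1, 2, 2], [0, 1, 1, 1], [0, 0, 1, 1, 1, 1, 1, 1, 2, 2, 2], [0, 0, 0, 1, 1, 1, 2, 2, 2, 2], [0, 0, 0, 0, 0, 1, 1, 1, 2, 2], [1, 1, 1], [0, 0, 0, 1, 1, 1, 1, 1, 1, 2], [0, 0, 0, 0, 2, 2, 2, 2, 2, 2], [0, 1, 1, 1, 2, 2], [0, 0, 1, 1, 2, 2, 2], [0, 0, 0, 0, 0, 0, 1, 1, 1, 1, 1, 1, 2, 2, 2, 2], [0, 0, 0, 0, 0, 1, 1, 1, 1, 2, 2, 2, 2, 2, 2], [1, 1, 2, 2, 2, 2, 2, 2], [0, 0, 0, 0, 1, 1, 1, 1, 2, 2, 2, 2], [0, 0, 0, 0, 1, 1, 2, 2, 2, 2, 2], [0, 0, 0, 1, 1, 1, 1, 1, 1], [0, 0, 0, 0, 1, 1, 1, 1, 1, 1, 2, 2, 2], [1, 1, 2, 2, 2], [0, 0, 0, 0, 0, 1, 1, 2, 2, 2, 2, 2, 2], [2], [1, 2, 2, 2, 2, 2, 2], [0, 0, 0, 0, 0, 0, 1, 1, 1, 1, 2, 2, 2], [0, 0, 0, 0, 0, 0, 2], [0, 0, 0,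 0, 1, 1, 1, 1, 2], [0, 0, 0, 0, 1, 1, 1, 1, 1, 1, 2, 2], [0, 0, 0, 0, 0, 0, 1, 1, 1, 1, 1, 1], [0, 0, 0, 0, 0, 0, 1, 1, 1, 1, 1, 1, 2, 2, 2, 2, 2], [0, 0, 0, 0, 0, 0, 1, 1, 1, 1, 2, 2, 2, 2], [0, 1], [0, 0, 1, 1, 1, 1, 1, 2, 2, 2], [1, 1, 1, 1, 1, 2, 2, 2], [0, 0, 1, 1, 2, 2, 2, 2, 2, 2], [0, 0, 1, 1, 1, 2, 2, 2, 2], [0, 0, 0, 1, 1, 1, 2, 2, 2], [0, 0, 0, 0, 1, 2, 2, 2, 2]]

def p7Nf : List (List ℕ) :=
  p7Nf_0 ++ p7Nf_1 ++ p7Nf_2 ++ p7Nf_3

/-- The certificate at 7. -/
def cert7 : CfsgLib.SchurCert.GCert :=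
  ⟨7, 3, p7Rels, p7Eqs, p7D, [], p7Sol, p7Nf⟩

end CfsgLib.HeMult
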