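/-
Words in the checked permutations of the presented Held group.
-/
import Cfsg.Agent.SchurCert.Gen
import Cfsg.Agent.H29.CosetCert.HeOrder.Cert

set_option autoImplicit false
set_option maxRecDepth 100000

namespace CfsgLib.HeMult

open H29.CosetCert CfsgLib.SchurCert
open CfsgLib.M23Coh (wordE)

/-- The group. -/
abbrev He : Type := Cfsg.Spor.He

/-- The action. -/
noncomputable abbrev rho : He →* Equiv.Perm (Fin 2058) := HeCert.ρ

theorem finite_He : Finite He := HeOrd.finite_card.1

theorem card_He : Nat.card He = 4030387200 := HeOrd.injective_card.2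

open Classical in
/-- A checked permutation as an element of the group. -/
noncomputable def el (k : ℕ) : He :=
  if hk : k < 55 then (HeCert.cert.elems HeSlp.slp (by decide) HeSlp.entries_ok k hk).choose else 1

theorem el_spec {k : ℕ} (hk : k < 55) (c : Fin 2058) :
    ((rho (el k) c : Fin 2058) : ℕ) = HeSlp.slp.tbl k c := by
  rw [el, dif_pos hk]
  exact (HeCert.cert.elems HeSlp.slp (by decide) HeSlp.entries_ok k hk).choose_spec c

/-- The base. -/
def base : List ℕ := [0, 910, 939, 196]

/-- A refined lower bound for a checked chain. -/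
theorem chain_mul_fixer {C : ℕ} (el' : ℕ → He) (hel : ∀ k, k < C → ∀ c : Fin 2058,
      ((rho (el' k) c : Fin 2058) : ℕ) = HeSlp.slp.tbl k c) (hC : C = HeSlp.slp.K) :
    ∀ (ls : List BaseLevel) (K : Subgroup (Equiv.Perm (Fin 2058))),
      chainOK HeSlp.slp 2058 ls = true → (∀ l ∈ ls, ∀ u ∈ l.U, rho (el' u) ∈ K) →
      (ls.map BaseLevel.sz).prod *
        Nat.card {g : K // ∀ l ∈ ls, ∀ c : Fin 2058, (c : ℕ) = l.b → (g : Equiv.Perm (Fin 2058)) c = c} ≤
        Nat.card K := by
  subst hC
  intro ls
  induction ls with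
  | nil =>
    intro K _ _
    simp only [List.map_nil, List.prod_nil, one_mul]
    exact Nat.card_le_card_of_injective (fun g => g.1) Subtype.val_injective
  | cons l rest ih =>
    intro K hl hU
    simp only [chainOK, Bool.and_eq_true, List.all_eq_true, Nat.blt_eq, beq_iff_eq] at hl
    obtain ⟨⟨⟨⟨⟨hb, hUK⟩, hfix⟩, hgrow⟩, hcnt⟩, hrest⟩ := hl
    set b : Fin 2058 := ⟨l.b, hb⟩
    let K' : Subgroup (Equiv.Perm (Fin 2058)) := K ⊓ MulAction.stabilizer _ b
    have hall : ∀ (ls : List BaseLevel), chainOK HeSlp.slp 2058 ls = true → ∀ r ∈ ls, ∀ u ∈ r.U,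
        u < HeSlp.slp.K := by
      intro ls
      induction ls with
      | nil => simp
      | cons a as iha =>
        intro hc r hr u hu
        simp only [chainOK, Bool.and_eq_true, List.all_eq_true, Nat.blt_eq, beq_iff_eq] at hc
        rcases List.mem_cons.1 hr with rfl | hr
        · exact hc.1.1.1.1.2 u hu
        · exact iha hc.2 r hr u hu
    have hK'U : ∀ r ∈ rest, ∀ u ∈ r.U, rho (el' u) ∈ K' := fun r hr u hu => by
      refine ⟨hU r (List.mem_cons_of_mem _ hr) u hu, ?_⟩
      show rho (el' u) b = b
      apply Fin.ext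
      rw [hel u (hall rest hrest r hr u hu)]
      exact hfix r hr u hu
    have hK' := ih K' hrest hK'U
    have horb : l.sz ≤ Nat.card (MulAction.orbit K b) := by
      rw [Nat.card_coe_set_eq]
      have hmem : ∀ (g : List ℕ) (seen : ℕ),
          growOK HeSlp.slp.tbl (l.U.map fun u => [u]) l.m g seen = true →
          (∀ c : ℕ, seen.testBit c = true → ∃ d ∈ MulAction.orbit K b, (d : ℕ) = c) →
          ∀ c : ℕ, l.m.testBit c = true → ∃ d ∈ MulAction.orbit K b, (d : ℕ) = c := by
        intro g
        induction g with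
        | nil =>
          intro seen hg hseen c hc
          simp only [growOK, beq_iff_eq] at hg
          exact hseen c (hg ▸ hc)
        | cons e g ihg =>
          intro seen hg hseen
          simp only [growOK, Bool.and_eq_true, beq_iff_eq] at hg
          obtain ⟨⟨hbit, he⟩, hg⟩ := hg
          apply ihg _ hg
          intro c hc
          rw [Nat.testBit_lor, Bool.or_eq_true, Nat.testBit_two_pow, decide_eq_true_iff] at hc
          rcases hc with hc | hc
          · exact hseen c hc
          obtain ⟨d, hd, hdc⟩ := hseen _ hbit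
          subst hc
          by_cases hi : H29.CosetCert.fld e 2 < l.U.length
          · refine ⟨rho (el' l.U[H29.CosetCert.fld e 2]) d, ?_, ?_⟩
            · obtain ⟨k, rfl⟩ := hd
              exact ⟨⟨_, hU l List.mem_cons_self _ (List.getElem_mem hi)⟩ * k,
                by show (_ * k) • b = _; rw [mul_smul]; rfl⟩
            · rw [hel _ (hUK _ (List.getElem_mem hi)), hdc, ← he]
              simp [List.getD_eq_getElem?_getD, hi, runR_cons, runR]
          · rw [List.getD_eq_default _ _ (by simp; omega)] at he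
            exact ⟨d, hd, hdc.trans he⟩
      have hallm := hmem _ _ hgrow (fun c hc => by
        rw [Nat.testBit_two_pow, decide_eq_true_iff] at hc
        exact ⟨b, MulAction.mem_orbit_self b, hc⟩)
      have hcount : ∀ (k lo : ℕ),
          countIn l.m.testBit lo k =
            ((Finset.Ico lo (lo + k)).filter fun c => l.m.testBit c = true).card := by
        intro k
        induction k with
        | zero => intro lo; simp [countIn]
        | succ k ihk =>
          intro lo
          have hins : Finset.Ico lo (lo + (k + 1)) =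
              insert lo (Finset.Ico (lo + 1) (lo + 1 + k)) := by
            ext; simp; omega
          rw [countIn, ihk, hins, Finset.filter_insert]
          rcases Bool.eq_false_or_eq_true (l.m.testBit lo) with hh | hh <;> simp [hh]
      rw [← hcnt, hcount, ← Set.ncard_coe_finset,
        ← Set.ncard_image_of_injective (MulAction.orbit K b) Fin.val_injective]
      refine Set.ncard_le_ncard ?_ (Set.toFinite _)
      intro c hc
      simp only [Finset.coe_filter, Finset.mem_Ico, Set.mem_setOf_eq] at hc
      obtain ⟨d, hd, hdc⟩ := hallm c hc.2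
      exact ⟨d, hd, hdc⟩
    have hst : Nat.card (MulAction.stabilizer K b) = Nat.card K' :=
      Nat.card_congr ⟨fun x => ⟨x.1.1, x.1.2, x.2⟩, fun x => ⟨⟨x.1, x.2.1⟩, x.2.2⟩,
        fun _ => rfl, fun _ => rfl⟩
    have hfx : Nat.card {g : K // ∀ r ∈ l :: rest, ∀ c : Fin 2058, (c : ℕ) = r.b →
        (g : Equiv.Perm (Fin 2058)) c = c} ≤
        Nat.card {g : K' // ∀ r ∈ rest, ∀ c : Fin 2058, (c : ℕ) = r.b → (g : Equiv.Perm (Fin 2058)) c = c} := by
      refine Nat.card_le_card_of_injective (fun g => ⟨⟨g.1.1, g.1.2, g.2 l List.mem_cons_self b rfl⟩,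
        fun r hr => g.2 r (List.mem_cons_of_mem _ hr)⟩) fun g g' e => ?_
      exact Subtype.ext (Subtype.ext (congrArg (fun x => x.1.1) e))
    rw [List.map_cons, List.prod_cons,
      ← Nat.card_congr (MulAction.orbitProdStabilizerEquivGroup K b), Nat.card_prod, hst, mul_assoc]
    exact Nat.mul_le_mul horb ((Nat.mul_le_mul_left _ hfx).trans hK')

/-- The base has trivial fixer. -/
theorem base_fixer {a : He} (ha : ∀ c : Fin 2058, (c : ℕ) ∈ base → rho a c = c) : a = 1 := by
  haveI := finite_He
  let K := rho.range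
  have hb : HeSlp.chain.map BaseLevel.b = base := by decide +kernel
  have h := chain_mul_fixer el (fun k hk => el_spec hk) rfl HeSlp.chain K HeSlp.chain_ok
    (fun l _ u _ => ⟨el u, rfl⟩)
  have hprod : (HeSlp.chain.map BaseLevel.sz).prod = 4030387200 := by decide +kernel
  have hK : Nat.card K = 4030387200 := by
    rw [← card_He]
    exact (Nat.card_congr (MonoidHom.ofInjective HeOrd.injective_card.1).toEquiv).symm
  rw [hprod, hK] at h
  have hle : Nat.card {g : K // ∀ l ∈ HeSlp.chain, ∀ c : Fin 2058, (c : ℕ) = l.b →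
      (g : Equiv.Perm (Fin 2058)) c = c} ≤ 1 := Nat.le_of_mul_le_mul_left (by rw [mul_one]; exact h) (by norm_num)
  haveI := Finite.card_le_one_iff_subsingleton.1 hle
  have hmem : ∀ l ∈ HeSlp.chain, ∀ c : Fin 2058, (c : ℕ) = l.b → rho a c = c :=
    fun l hl c hc => ha c (hb ▸ hc ▸ List.mem_map_of_mem hl)
  have e : (⟨⟨rho a, a, rfl⟩, hmem⟩ : {g : K // ∀ l ∈ HeSlp.chain, ∀ c : Fin 2058, (c : ℕ) = l.b →
      (g : Equiv.Perm (Fin 2058)) c = c}) = ⟨1, fun l _ c _ => rfl⟩ := Subsingleton.elim _ _
  refine HeOrd.injective_card.1 ?_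
  rw [map_one]
  exact congrArg (fun x => x.1.1) e

/-- The element of a word. -/
noncomputable def gel (Ws : List (List ℕ)) (i : ℕ) : He := ((Ws.getD i []).map el).prod

/-- The words use only the checked permutations. -/
def lettersOk (Ws : List (List ℕ)) : Bool := Ws.all fun w => w.all fun x => Nat.blt x 55

/-- The action of one word. -/
noncomputable def act (Ws : List (List ℕ)) (i c : ℕ) : ℕ := runR HeSlp.slp.tbl (Ws.getD i []) c

theorem act_spec {Ws : List (List ℕ)} (hW : lettersOk Ws = true) (i : ℕ) (c : Fin 2058) :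
    ((rho (gel Ws i) c : Fin 2058) : ℕ) = act Ws i c := by
  refine HeCert.cert.word_val (L := HeSlp.slp) (el := el) (fun k hk c => el_spec hk c) _ ?_ c
  intro x hx
  rcases lt_or_ge i Ws.length with hi | hi
  · rw [List.getD_eq_getElem _ _ hi] at hx
    simp only [lettersOk, List.all_eq_true, Nat.blt_eq] at hW
    exact hW _ (List.getElem_mem hi) x hx
  · rw [List.getD_eq_default _ _ hi] at hx
    simp at hx

theorem img_spec {Ws : List (List ℕ)} (hW : lettersOk Ws = true) :
    ∀ (w : List ℕ) (c : Fin 2058),
      ((rho (wordE (gel Ws) w) c : Fin 2058) : ℕ) = runR (act Ws) w c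
  | [], c => by
    show ((rho (1 : He) c : Fin 2058) : ℕ) = (c : ℕ)
    rw [map_one]
    rfl
  | i :: r, c => by
    show ((rho (gel Ws i * wordE (gel Ws) r) c : Fin 2058) : ℕ) = _
    rw [map_mul, Equiv.Perm.mul_apply, runR_cons, act_spec hW, img_spec hW r]

/-- Both sides of each relation agree on the base. -/
noncomputable def relsChk (Ws : List (List ℕ)) (rels : List (List ℕ × List ℕ)) : Bool :=
  rels.all fun r => base.all fun b => Nat.beq (runR (act Ws) r.1 b) (runR (act Ws) r.2 b)

theorem rels_spec {Ws : List (List ℕ)} (hW : lettersOk Ws = true) {rels : List (List ℕ × List ℕ)}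
    (h : relsChk Ws rels = true) : ∀ r ∈ rels, wordE (gel Ws) r.1 = wordE (gel Ws) r.2 := by
  intro r hr
  refine inv_mul_eq_one.1 (base_fixer fun c hc => ?_)
  have hb := Nat.eq_of_beq_eq_true (List.all_eq_true.1 (List.all_eq_true.1 h r hr) c hc)
  rw [map_mul, map_inv, Equiv.Perm.mul_apply, Equiv.Perm.inv_eq_iff_eq]
  exact Fin.ext (by rw [img_spec hW, img_spec hW, hb])

/-- The images of the base, packed. -/
noncomputable def code (Ws : List (List ℕ)) (w : List ℕ) : ℕ :=
  runR (act Ws) w 0 + 4096 * (runR (act Ws) w 910 + 4096 * (runR (act Ws) w 939 + 4096 * runR (act Ws) w 196))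

/-- The conditions of a certificate. -/
theorem ok_of {Ws : List (List ℕ)} {c : GCert} (hp : c.p.Prime) (hW : lettersOk Ws = true)
    (hr : relsChk Ws c.rels = true) (hn : increasing (c.nf.map (code Ws)) = true) (h2 : c.checkEqs = true)
    (h3 : c.checkSol = true) (h45 : (c.checkShape && c.checkNF) = true)
    (hs : ¬ c.p ∣ 4030387200 / c.p ^ c.n) : c.Ok (gel Ws) := by
  simp only [Bool.and_eq_true] at h45
  refine ⟨hp, rels_spec hW hr, h2, h3, h45.1, h45.2, ?_, by rwa [card_He]⟩
  have hnd := increasing_nodup _ hn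
  refine (List.nodup_map_iff_inj_on (List.Nodup.of_map _ hnd)).2 fun a ha b hb hab => ?_
  refine List.inj_on_of_nodup_map hnd ha hb ?_
  have hx : ∀ (k : ℕ) (hk : k < 2058), runR (act Ws) a k = runR (act Ws) b k := fun k hk => by
    rw [← img_spec hW a ⟨k, hk⟩, ← img_spec hW b ⟨k, hk⟩, hab]
  simp only [code, hx 0 (by norm_num), hx 910 (by norm_num), hx 939 (by norm_num), hx 196 (by norm_num)]

/-- Sets of points showing that each generator is outside the span of the later ones. -/
noncomputable def witChk (Ws : List (List ℕ)) (n : ℕ) (wit : List (List ℕ)) : Bool :=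
  (List.range n).all fun i =>
    ((wit.getD i []).all fun x => Nat.blt x 2058) &&
    ((List.range n).all fun j => Nat.ble j i || (wit.getD i []).all fun x =>
      (wit.getD i []).contains (act Ws j x)) &&
    (wit.getD i []).any fun x => !((wit.getD i []).contains (act Ws i x))

/-- The conditions of a certificate at two. -/
theorem core_of_two {Ws : List (List ℕ)} {c : GCert} (hp : c.p = 2) (hW : lettersOk Ws = true)
    (hr : relsChk Ws c.rels = true) {wit : List (List ℕ)} (hw : witChk Ws c.n wit = true)
    (h2 : c.checkEqs = true) {rows : List ℕ} (hrows : rows = c.eqs.map eqMask)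
    (h3 : c.checkSolTwo rows = true) (h4 : c.checkShape = true)
    (hs : ¬ c.p ∣ 4030387200 / c.p ^ c.n) : c.Core (gel Ws) := by
  refine ⟨hp ▸ Nat.prime_two, rels_spec hW hr, h2, GCert.checkSol_of_two hp hrows h3, h4, ?_,
    by rwa [card_He]⟩
  haveI := finite_He
  letI : MulAction He (Fin 2058) := MulAction.compHom _ rho
  rw [hp]
  refine two_pow_le_closure (α := Fin 2058) (gel Ws) c.n fun i hi => ?_
  have hh := List.all_eq_true.1 hw i (List.mem_range.2 hi)
  simp only [Bool.and_eq_true, List.all_eq_true, List.any_eq_true, Bool.or_eq_true, List.mem_range,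
    Nat.ble_eq, Bool.not_eq_true', List.contains_iff_mem, Nat.blt_eq] at hh
  obtain ⟨⟨hin, hkeep⟩, x, hx, hxn⟩ := hh
  refine ⟨{u | (u : ℕ) ∈ wit.getD i []}, fun j hj hjn u hu => ?_, ⟨x, hin x hx⟩, hx, fun hc => ?_⟩
  · show ((rho (gel Ws j) u : Fin 2058) : ℕ) ∈ wit.getD i []
    rw [act_spec hW]
    exact (hkeep j hjn).resolve_left (by omega) _ hu
  · change ((rho (gel Ws i) ⟨x, hin x hx⟩ : Fin 2058) : ℕ) ∈ wit.getD i [] at hc
    rw [act_spec hW] at hc
    rw [← List.contains_iff_mem] at hc
    exact absurd hc (by rw [hxn]; decide)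

end CfsgLib.HeMult
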